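/-
Projections onto common fixed vectors of root subgroups in a representation.
-/
import Cfsg.Agent.Lib.PLocal.TrialityDegree
import Cfsg.Agent.Lib.Lie.Rel.Basic

set_option autoImplicit false
set_option linter.unusedSectionVars false

namespace CfsgLib.PLocal.Rad

open Module CfsgLib.Lie.Chev CfsgLib.PLocal.Triality
open Cfsg.Lie (ChevalleyDatum)

variable {D : ChevalleyDatum} {X : Aux} {F : Type*} [Field F] [Fintype F] {G : Type*} [Group G] (R : Rel D X F G)
variable {V : Type*} [AddCommGroup V] [Module ℂ V] [FiniteDimensional ℂ V] (ρ : Representation ℂ G V)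

/-- a root subgroup as a character with values in the group -/
def rc (r : ℕ) : AddChar F G where
  toFun t := R.xe r t
  map_zero_eq_one' := R.xe_zero r
  map_add_eq_mul' t u := (R.xe_add' r t u).symm

theorem rc_apply (r : ℕ) (t : F) : rc R r t = R.xe r t := rfl

/-- the projection onto the common fixed vectors of the listed root subgroups inside the range of `E` -/
noncomputable def fixOn (E : Module.End ℂ V) : List ℕ → Module.End ℂ V
  | [] => E
  | r :: l => proj ρ (rc R r) 0 (fixOn E l)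

/-- every listed root subgroup commutes with the projection of the rest of the list -/
def GoodL (E : Module.End ℂ V) : List ℕ → Prop
  | [] => E * E = E
  | r :: l => GoodL E l ∧ ∀ t, Commute (ρ (R.xe r t)) (fixOn R ρ E l)

/-- every listed root subgroup fixes `v` -/
def Fixed (l : List ℕ) (v : V) : Prop := ∀ r ∈ l, ∀ t, ρ (R.xe r t) v = v

theorem app (g h : G) (v : V) : ρ (g * h) v = ρ g (ρ h v) := by rw [map_mul]; rfl

theorem app_inj (g : G) {v w : V} (h : ρ g v = ρ g w) : v = w := by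
  have := congrArg (ρ g⁻¹) h
  rwa [← app, ← app, inv_mul_cancel, map_one] at this

theorem app_ne_zero (g : G) {v : V} (hv : v ≠ 0) : ρ g v ≠ 0 := fun h =>
  hv (app_inj ρ g (h.trans (map_zero _).symm))

variable {E : Module.End ℂ V}

theorem fixOn_idem : ∀ {l : List ℕ}, GoodL R ρ E l → fixOn R ρ E l * fixOn R ρ E l = fixOn R ρ E l
  | [], h => h
  | r :: _, h => proj_idem ρ (rc R r) 0 (fixOn_idem h.1) h.2

theorem fixOn_left : ∀ {l : List ℕ}, GoodL R ρ E l → E * fixOn R ρ E l = fixOn R ρ E l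
  | [], h => h
  | r :: l, h => by
    rw [fixOn, ← proj_left ρ (rc R r) 0 (fixOn_idem R ρ h.1) h.2, ← mul_assoc, fixOn_left h.1]

theorem fixOn_absorb : ∀ {l : List ℕ}, GoodL R ρ E l → ∀ r ∈ l, ∀ t,
    ρ (R.xe r t) * fixOn R ρ E l = fixOn R ρ E l ∧
      fixOn R ρ E l * ρ (R.xe r t) = fixOn R ρ E l
  | [], _, _, hr, _ => absurd hr List.not_mem_nil
  | s :: l, h, r, hr, t => by
    have hhead : ∀ u, ρ (R.xe s u) * fixOn R ρ E (s :: l) = fixOn R ρ E (s :: l) := fun u => by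
      show ρ (rc R s u) * proj ρ (rc R s) 0 _ = _
      rw [map_mul_proj, AddChar.zero_apply, one_smul]
      rfl
    rcases List.mem_cons.1 hr with rfl | hr
    · refine ⟨hhead t, ?_⟩
      have hc : Commute (ρ (R.xe r t)) (fixOn R ρ E (r :: l)) :=
        proj_commute ρ (rc R r) 0 (fixOn_idem R ρ h.1) h.2 fun u => by
          refine Commute.mul_right ?_ (h.2 t)
          show ρ (R.xe r t) * ρ (R.xe r u) = ρ (R.xe r u) * ρ (R.xe r t)
          rw [← map_mul, ← map_mul, R.xe_add', R.xe_add', add_comm]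
      rw [← hc.eq]
      exact hhead t
    · have ih := fixOn_absorb h.1 r hr t
      refine ⟨?_, ?_⟩
      · rw [fixOn, ← proj_left ρ (rc R s) 0 (fixOn_idem R ρ h.1) h.2, ← mul_assoc, ih.1]
      · rw [fixOn, proj, smul_mul_assoc, Finset.sum_mul]
        refine congrArg _ (Finset.sum_congr rfl fun a _ => ?_)
        rw [smul_mul_assoc, mul_assoc, ih.2]

/-- vectors in the range -/
theorem fixOn_apply_iff {l : List ℕ} (h : GoodL R ρ E l) (v : V) :
    fixOn R ρ E l v = v ↔ E v = v ∧ Fixed R ρ l v := by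
  constructor
  · intro hv
    refine ⟨?_, fun r hr t => ?_⟩
    · conv_lhs => rw [← hv]
      rw [← Module.End.mul_apply, fixOn_left R ρ h, hv]
    · conv_lhs => rw [← hv]
      rw [← Module.End.mul_apply, (fixOn_absorb R ρ h r hr t).1, hv]
  · rintro ⟨hE, hf⟩
    induction l with
    | nil => exact hE
    | cons s l ih =>
      refine proj_apply_of_eigen ρ (rc R s) 0 (ih h.1 fun r hr => hf r (List.mem_cons_of_mem _ hr)) fun a => ?_
      rw [AddChar.zero_apply, one_smul]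
      exact hf s List.mem_cons_self a

/-- idempotents with the same fixed vectors have the same trace -/
theorem trace_congr {P Q : Module.End ℂ V} (hP : P * P = P) (hQ : Q * Q = Q)
    (h : ∀ v, P v = v ↔ Q v = v) : LinearMap.trace ℂ V P = LinearMap.trace ℂ V Q := by
  have key : ∀ {P : Module.End ℂ V}, P * P = P → ∀ v, v ∈ LinearMap.range P ↔ P v = v := fun {P} hP v =>
    ⟨fun ⟨u, hu⟩ => by rw [← hu]; exact LinearMap.congr_fun hP u, fun hv => ⟨v, hv⟩⟩
  rw [trace_idem hP, trace_idem hQ, show LinearMap.range P = LinearMap.range Q from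
    Submodule.ext fun v => by rw [key hP, key hQ, h]]

/-- the subgroup absorbed by an operator -/
def Stab (Q : Module.End ℂ V) : Subgroup G where
  carrier := {g | ρ g * Q = Q ∧ Q * ρ g = Q}
  one_mem' := by simp
  mul_mem' := by
    rintro g h ⟨g1, g2⟩ ⟨h1, h2⟩
    refine ⟨?_, ?_⟩
    · rw [map_mul, mul_assoc, h1, g1]
    · rw [map_mul, ← mul_assoc, g2, h2]
  inv_mem' := by
    rintro g ⟨g1, g2⟩
    refine ⟨?_, ?_⟩
    · nth_rewrite 1 [← g1]
      rw [← mul_assoc, ← map_mul, inv_mul_cancel, map_one, one_mul]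
    · nth_rewrite 1 [← g2]
      rw [mul_assoc, ← map_mul, mul_inv_cancel, map_one, mul_one]

theorem xe_mem_Stab {l : List ℕ} (h : GoodL R ρ E l) {r : ℕ} (hr : r ∈ l) (t : F) :
    R.xe r t ∈ Stab ρ (fixOn R ρ E l) := fixOn_absorb R ρ h r hr t

theorem absorb_left : ∀ {l : List ℕ}, GoodL R ρ (1 : Module.End ℂ V) l → ∀ {T : Module.End ℂ V},
    (∀ r ∈ l, ∀ t, ρ (R.xe r t) * T = T) → fixOn R ρ 1 l * T = T
  | [], _, T, _ => one_mul T
  | s :: l, h, T, hT => by
    have ih := absorb_left h.1 fun r hr => hT r (List.mem_cons_of_mem _ hr)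
    rw [fixOn, proj, smul_mul_assoc, Finset.sum_mul]
    simp only [AddChar.zero_apply, one_smul, mul_assoc, ih, rc_apply, hT s List.mem_cons_self, Finset.sum_const,
      Finset.card_univ]
    rw [← Nat.cast_smul_eq_nsmul ℂ, smul_smul, inv_mul_cancel₀ card_ne_zero', one_smul]

theorem absorb_right : ∀ {l : List ℕ}, GoodL R ρ (1 : Module.End ℂ V) l → ∀ {T : Module.End ℂ V},
    (∀ r ∈ l, ∀ t, T * ρ (R.xe r t) = T) → T * fixOn R ρ 1 l = T
  | [], _, T, _ => mul_one T
  | s :: l, h, T, hT => by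
    have ih := absorb_right h.1 fun r hr => hT r (List.mem_cons_of_mem _ hr)
    rw [fixOn, proj, mul_smul_comm, Finset.mul_sum]
    simp only [AddChar.zero_apply, one_smul, ← mul_assoc, rc_apply, hT s List.mem_cons_self, ih, Finset.sum_const,
      Finset.card_univ]
    rw [← Nat.cast_smul_eq_nsmul ℂ, smul_smul, inv_mul_cancel₀ card_ne_zero', one_smul]

/-- a group element normalising the listed root subgroups commutes with the projection -/
theorem commute_fix {l : List ℕ} (h : GoodL R ρ (1 : Module.End ℂ V) l) {g : G}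
    (h1 : ∀ r ∈ l, ∀ t, g * R.xe r t * g⁻¹ ∈ Stab ρ (fixOn R ρ 1 l))
    (h2 : ∀ r ∈ l, ∀ t, g⁻¹ * R.xe r t * g ∈ Stab ρ (fixOn R ρ 1 l)) :
    Commute (ρ g) (fixOn R ρ 1 l) := by
  set Q := fixOn R ρ 1 l
  have hgg : ρ g * ρ g⁻¹ = 1 := by rw [← map_mul, mul_inv_cancel, map_one]
  have hgg' : ρ g⁻¹ * ρ g = 1 := by rw [← map_mul, inv_mul_cancel, map_one]
  set Q' := ρ g * Q * ρ g⁻¹ with hQ'
  -- `Q'` absorbs the root subgroups
  have a1 : ∀ r ∈ l, ∀ t, Q' * ρ (R.xe r t) = Q' := fun r hr t => by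
    calc Q' * ρ (R.xe r t) = ρ g * (Q * (ρ g⁻¹ * ρ (R.xe r t) * (ρ g * ρ g⁻¹))) := by
          rw [hQ', hgg, mul_one]; simp only [mul_assoc]
      _ = ρ g * (Q * ρ (g⁻¹ * R.xe r t * g)) * ρ g⁻¹ := by simp only [map_mul, mul_assoc]
      _ = Q' := by rw [(h2 r hr t).2]
  have a2 : ∀ r ∈ l, ∀ t, ρ (R.xe r t) * Q' = Q' := fun r hr t => by
    calc ρ (R.xe r t) * Q' = (ρ g * ρ g⁻¹) * ρ (R.xe r t) * ρ g * Q * ρ g⁻¹ := by
          rw [hQ', hgg, one_mul]; simp only [mul_assoc]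
      _ = ρ g * (ρ (g⁻¹ * R.xe r t * g) * Q) * ρ g⁻¹ := by simp only [map_mul, mul_assoc]
      _ = Q' := by rw [(h2 r hr t).1]
  -- `g⁻¹ Q g` absorbs them on the left
  have b2 : ∀ r ∈ l, ∀ t, ρ (R.xe r t) * (ρ g⁻¹ * Q * ρ g) = ρ g⁻¹ * Q * ρ g := fun r hr t => by
    calc ρ (R.xe r t) * (ρ g⁻¹ * Q * ρ g) = (ρ g⁻¹ * ρ g) * ρ (R.xe r t) * ρ g⁻¹ * Q * ρ g := by
          rw [hgg', one_mul]; simp only [mul_assoc]
      _ = ρ g⁻¹ * (ρ (g * R.xe r t * g⁻¹) * Q) * ρ g := by simp only [map_mul, mul_assoc]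
      _ = _ := by rw [(h1 r hr t).1]
  have e1 : Q * Q' = Q' := absorb_left R ρ h a2
  have e2 : Q' * Q = Q' := absorb_right R ρ h a1
  have e3 : Q * (ρ g⁻¹ * Q * ρ g) = ρ g⁻¹ * Q * ρ g := absorb_left R ρ h b2
  have e4 : Q' * Q = Q := by
    have := congrArg (fun T => ρ g * T * ρ g⁻¹) e3
    simp only [mul_assoc] at this
    rw [hgg, mul_one] at this
    simp only [← mul_assoc] at this
    rw [hgg, one_mul] at this
    rw [hQ']
    exact this
  have e5 : Q' = Q := e2.symm.trans e4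
  show ρ g * Q = Q * ρ g
  calc ρ g * Q = Q' * ρ g := by rw [hQ', mul_assoc _ (ρ g⁻¹), hgg', mul_one]
    _ = Q * ρ g := by rw [e5]

/-! ### commutator terms -/

/-- all terms of the commutator formula of `r` and `s` lie in `l` -/
def Terms (D : ChevalleyDatum) (r s : ℕ) (l : List ℕ) : Prop :=
  r < D.nroots ∧ s < D.nroots ∧ s ≠ r ∧ s ≠ D.neg r ∧ ∀ c ∈ D.commTerms r s, c.1 ∈ l

instance (D : ChevalleyDatum) (r s : ℕ) (l : List ℕ) : Decidable (Terms D r s l) := by
  unfold Terms; infer_instance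

/-- the commutator formula is one term with coefficient `±1` -/
def One (D : ChevalleyDatum) (r s k : ℕ) : Prop :=
  r < D.nroots ∧ s < D.nroots ∧ s ≠ r ∧ s ≠ D.neg r ∧
    (D.commTerms r s = [(k, 1, 1, 1)] ∨ D.commTerms r s = [(k, -1, 1, 1)])

instance (D : ChevalleyDatum) (r s k : ℕ) : Decidable (One D r s k) := by unfold One; infer_instance

theorem One.terms {r s k : ℕ} (h : One D r s k) {l : List ℕ} (hk : k ∈ l) : Terms D r s l := by
  refine ⟨h.1, h.2.1, h.2.2.1, h.2.2.2.1, fun c hc => ?_⟩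
  rcases h.2.2.2.2 with e | e <;> rw [e, List.mem_singleton] at hc <;> rw [hc] <;> exact hk

theorem One.swap {r s k : ℕ} (h : One D r s k) :
    ∃ ε : F, ε ≠ 0 ∧ ∀ t u : F, R.xe s u * R.xe r t = R.xe r t * R.xe s u * R.xe k (ε * t * u) := by
  obtain ⟨h1, h2, h3, h4, h5⟩ := h
  rcases h5 with e | e
  · refine ⟨-1, neg_ne_zero.2 one_ne_zero, fun t u => ?_⟩
    rw [R.xe_comm r s t u h1 h2 h3 h4, ChevalleyDatum.commWord, e]
    simp only [List.map_cons, List.map_nil, List.prod_cons, List.prod_nil, mul_one, pow_one]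
    congr 2
    push_cast
    ring
  · refine ⟨1, one_ne_zero, fun t u => ?_⟩
    rw [R.xe_comm r s t u h1 h2 h3 h4, ChevalleyDatum.commWord, e]
    simp only [List.map_cons, List.map_nil, List.prod_cons, List.prod_nil, mul_one, pow_one]
    congr 2
    push_cast
    ring

theorem word_mem {H : Subgroup G} {l : List ℕ} (hl : ∀ k ∈ l, ∀ c, R.xe k c ∈ H) {w : List (ℕ × F)}
    (hw : ∀ p ∈ w, p.1 ∈ l) : (w.map fun p => R.xe p.1 p.2).prod ∈ H :=
  list_prod_mem fun x hx => by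
    obtain ⟨p, hp, rfl⟩ := List.mem_map.1 hx
    exact hl _ (hw p hp) _

theorem Terms.swap {r s : ℕ} {l : List ℕ} (h : Terms D r s l) {H : Subgroup G}
    (hl : ∀ k ∈ l, ∀ c, R.xe k c ∈ H) (t u : F) :
    ∃ P ∈ H, R.xe s u * R.xe r t = R.xe r t * R.xe s u * P := by
  obtain ⟨h1, h2, h3, h4, h5⟩ := h
  refine ⟨_, word_mem R hl fun p hp => ?_, R.xe_comm r s t u h1 h2 h3 h4⟩
  simp only [ChevalleyDatum.commWord, List.mem_map] at hp
  obtain ⟨c, hc, rfl⟩ := hp
  exact h5 c hc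

/-- the subgroup fixing a vector -/
def vStab (v : V) : Subgroup G where
  carrier := {g | ρ g v = v}
  one_mem' := by simp
  mul_mem' := by
    intro g h (hg : ρ g v = v) (hh : ρ h v = v)
    show ρ (g * h) v = v
    rw [app, hh, hg]
  inv_mem' := by
    intro g (hg : ρ g v = v)
    show ρ g⁻¹ v = v
    conv_lhs => rw [← hg]
    rw [← app, inv_mul_cancel, map_one]
    rfl

theorem Fixed.mem_vStab {l : List ℕ} {v : V} (hv : Fixed R ρ l v) : ∀ k ∈ l, ∀ c, R.xe k c ∈ vStab ρ v := hv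

/-- root subgroups whose commutators fix `v` commute on `v` -/
theorem Terms.move {r s : ℕ} {l : List ℕ} (h : Terms D r s l) {v : V} (hv : Fixed R ρ l v) (t u : F) :
    ρ (R.xe s u) (ρ (R.xe r t) v) = ρ (R.xe r t) (ρ (R.xe s u) v) := by
  obtain ⟨P, hP, e⟩ := h.swap R (Fixed.mem_vStab R ρ hv) t u
  rw [← app, e, app, show ρ P v = v from hP, app]

/-- conjugation of a root element by another -/
theorem Terms.conj_mem {a s : ℕ} {l : List ℕ} (h : Terms D a s l) {H : Subgroup G}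
    (hl : ∀ k ∈ l, ∀ c, R.xe k c ∈ H) (hs : ∀ c, R.xe s c ∈ H) (t u : F) :
    R.xe a t * R.xe s u * (R.xe a t)⁻¹ ∈ H := by
  obtain ⟨P, hP, e⟩ := h.swap R hl (-t) u
  have e' : R.xe a t * R.xe s u * (R.xe a t)⁻¹ = R.xe s u * P := by
    rw [← R.xe_neg, mul_assoc, e, ← mul_assoc, ← mul_assoc, R.xe_add', add_neg_cancel, R.xe_zero, one_mul]
  rw [e']
  exact mul_mem (hs u) hP

/-- a root element whose commutators with the list stay in the list commutes with the projection -/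
theorem commute_fix_xe {l : List ℕ} (h : GoodL R ρ (1 : Module.End ℂ V) l) {a : ℕ}
    (ha : ∀ s ∈ l, s = a ∨ Terms D a s l) (t : F) : Commute (ρ (R.xe a t)) (fixOn R ρ 1 l) := by
  have key : ∀ t, ∀ s ∈ l, ∀ u, R.xe a t * R.xe s u * (R.xe a t)⁻¹ ∈ Stab ρ (fixOn R ρ 1 l) := by
    intro t s hs u
    rcases ha s hs with rfl | hT
    · exact mul_mem (mul_mem (xe_mem_Stab R ρ h hs t) (xe_mem_Stab R ρ h hs u))
        (inv_mem (xe_mem_Stab R ρ h hs t))
    · exact hT.conj_mem R (fun k hk => xe_mem_Stab R ρ h hk) (fun c => xe_mem_Stab R ρ h hs c) t u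
  refine commute_fix R ρ h (key t) fun s hs u => ?_
  have := key (-t) s hs u
  rwa [R.xe_neg, inv_inv] at this

/-- a list normalised by each of its heads is good -/
theorem goodL_of_normal : ∀ {l : List ℕ},
    (∀ a m, (a :: m) <:+ l → ∀ s ∈ m, s = a ∨ Terms D a s m) → GoodL R ρ (1 : Module.End ℂ V) l
  | [], _ => one_mul 1
  | a :: m, h => ⟨goodL_of_normal fun b m' hm => h b m' (hm.trans (List.suffix_cons a m)),
      fun t => commute_fix_xe R ρ (goodL_of_normal fun b m' hm => h b m' (hm.trans (List.suffix_cons a m)))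
        (h a m (List.suffix_refl _)) t⟩

/-- a root subgroup commuting up to absorbed elements commutes with the projection -/
theorem commute_proj_elem {φ : AddChar F G} {χ : AddChar F ℂ} {Q : Module.End ℂ V} (hQ : Q * Q = Q)
    (hc : ∀ a, Commute (ρ (φ a)) Q) {g : G} (hg : Commute (ρ g) Q)
    (h : ∀ a, ∃ P ∈ Stab ρ Q, g * φ a = φ a * g * P) : Commute (ρ g) (proj ρ φ χ Q) :=
  proj_commute ρ φ χ hQ hc fun a => by
    obtain ⟨P, hP, e⟩ := h a
    refine (?_ : ρ g * (ρ (φ a) * Q) = ρ (φ a) * Q * ρ g)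
    rw [← mul_assoc, ← map_mul, e, map_mul, map_mul, mul_assoc, hP.1, mul_assoc, hg.eq, ← mul_assoc]

/-- equality of all nontrivial multiplicities from a torus -/
theorem trace_proj_const {r : ℕ} {Q : Module.End ℂ V}
    (hh : ∀ t : F, t ≠ 0 → ∃ g, g * R.xe r 1 * g⁻¹ = R.xe r t ∧ Commute (ρ g) Q) {χ χ' : AddChar F ℂ}
    (hχ : χ ≠ 0) (hχ' : χ' ≠ 0) :
    LinearMap.trace ℂ V (proj ρ (rc R r) χ Q) = LinearMap.trace ℂ V (proj ρ (rc R r) χ' Q) := by
  have hc : ∀ a : F, a ≠ 0 → LinearMap.trace ℂ V (ρ (rc R r a) * Q) =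
      LinearMap.trace ℂ V (ρ (R.xe r 1) * Q) := fun a ha => by
    obtain ⟨g, hg, hgQ⟩ := hh a ha
    exact trace_conj ρ hg hgQ
  apply mul_left_cancel₀ (card_ne_zero' (B := F))
  rw [trace_proj ρ (rc R r) χ rfl hc, trace_proj ρ (rc R r) χ' rfl hc, AddChar.sum_eq_zero_iff_ne_zero.2 hχ,
    AddChar.sum_eq_zero_iff_ne_zero.2 hχ']

end CfsgLib.PLocal.Rad
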