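/-
Lists of positive roots with good fixed-point projections, monomial elements, and multiplicities of simple
root characters.
-/
import Cfsg.Agent.Lib.PLocal.Rad.Proj
import Cfsg.Agent.Lib.Lie.Chev.Matrix

set_option autoImplicit false
set_option linter.unusedSectionVars false

namespace CfsgLib.PLocal.Rad

open Module CfsgLib.Lie.Chev CfsgLib.PLocal.Triality
open Cfsg.Lie (ChevalleyDatum)

/-- the positive roots outside `ex` -/
def posOut (D : ChevalleyDatum) (ex : List ℕ) : List ℕ :=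
  (List.range' (half D) (half D)).filter fun r => decide (r ∉ ex)

/-- the image of a root under a word of simple reflections -/
def appW (X : Aux) (w : List ℕ) (r : ℕ) : ℕ := w.foldr (fun i s => X.w i s) r

/-- the support of a root lies in `J` -/
def Supp (D : ChevalleyDatum) (X : Aux) (J : List ℕ) (r : ℕ) : Prop := ∀ l < D.rank, l ∈ J ∨ X.coef l r = 0

instance (D : ChevalleyDatum) (X : Aux) (J : List ℕ) (r : ℕ) : Decidable (Supp D X J r) := by
  unfold Supp; infer_instance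

/-- `ex` is exactly the set of positive roots with support in `J` -/
def Closed (D : ChevalleyDatum) (X : Aux) (J ex : List ℕ) : Prop :=
  (∀ r ∈ ex, half D ≤ r ∧ r < D.nroots ∧ Supp D X J r) ∧ ∀ r ∈ posOut D ex, ¬ Supp D X J r

instance (D : ChevalleyDatum) (X : Aux) (J ex : List ℕ) : Decidable (Closed D X J ex) := by
  unfold Closed; infer_instance

variable {D : ChevalleyDatum} {X : Aux} {F : Type*} [Field F] [Fintype F] {G : Type*} [Group G] (R : Rel D X F G)
variable {V : Type*} [AddCommGroup V] [Module ℂ V] [FiniteDimensional ℂ V] (ρ : Representation ℂ G V)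
include R

theorem mem_posOut {ex : List ℕ} {r : ℕ} :
    r ∈ posOut D ex ↔ half D ≤ r ∧ r < D.nroots ∧ r ∉ ex := by
  have := R.cert.nroots_eq
  simp only [posOut, List.mem_filter, List.mem_range'_1, decide_eq_true_iff]
  constructor
  · rintro ⟨⟨h1, h2⟩, h3⟩; exact ⟨h1, by omega, h3⟩
  · rintro ⟨h1, h2, h3⟩; exact ⟨⟨h1, by omega⟩, h3⟩

theorem posOut_sorted (ex : List ℕ) : (posOut D ex).Pairwise (· < ·) :=
  List.Pairwise.filter _ (List.pairwise_lt_range' (s := half D) (n := half D))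

theorem neg_lt_half {r : ℕ} (h1 : half D ≤ r) (h2 : r < D.nroots) : D.neg r < half D :=
  (R.cert.neg_lt_half_iff h2).2 h1

theorem pos_ne_neg {r s : ℕ} (h1 : half D ≤ r) (h2 : r < D.nroots) (h3 : half D ≤ s) : s ≠ D.neg r := fun e => by
  have := neg_lt_half R h1 h2
  omega

/-- the terms of two positive roots are larger than both and positive -/
theorem terms_pos {r s : ℕ} (hr : half D ≤ r) (hr' : r < D.nroots) (hs : half D ≤ s) (hs' : s < D.nroots)
    (hne : s ≠ r) {l : List ℕ} (hl : ∀ k, k < D.nroots → half D ≤ k → r < k → s < k →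
      (∃ i j : ℕ, 1 ≤ i ∧ 1 ≤ j ∧ ∀ m, m < D.rank → X.coef m k = (i : ℤ) * X.coef m r + (j : ℤ) * X.coef m s) →
      k ∈ l) : Terms D r s l := by
  refine ⟨hr', hs', hne, pos_ne_neg R hr hr' hs, fun c hc => ?_⟩
  obtain ⟨h1, h2, h3, h4, h5⟩ := R.cert.commTerms_props hr' hs' c hc
  obtain ⟨g1, g2, g3⟩ := h4 hr hs
  exact hl _ h1 g3 g1 g2 ⟨_, _, h2, h3, h5⟩

/-- a root with support in `J` moves positive roots outside `J` to positive roots outside `J` -/
theorem terms_supp {J ex : List ℕ} (hJ : Closed D X J ex) {a s : ℕ} (ha : a < D.nroots) (haJ : Supp D X J a)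
    (hs : s ∈ posOut D ex) : Terms D a s (posOut D ex) := by
  obtain ⟨s1, s2, -⟩ := (mem_posOut R).1 hs
  obtain ⟨m, hm, hmJ, hms⟩ : ∃ m, m < D.rank ∧ m ∉ J ∧ X.coef m s ≠ 0 := by
    have := hJ.2 s hs
    simp only [Supp, not_forall, not_or] at this
    obtain ⟨m, hm, h1, h2⟩ := this
    exact ⟨m, hm, h1, h2⟩
  have hma : X.coef m a = 0 := (haJ m hm).resolve_left hmJ
  have hpos : 0 < X.coef m s := lt_of_le_of_ne (R.cert.coef_nonneg s2 hm s1) (Ne.symm hms)
  refine ⟨ha, s2, fun e => hms (e ▸ hma), fun e => hms ?_, fun c hc => ?_⟩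
  · rw [e, R.cert.coef_neg ha hm, hma, neg_zero]
  obtain ⟨h1, -, h3, -, h5⟩ := R.cert.commTerms_props ha s2 c hc
  have hk : 0 < X.coef m c.1 := by
    rw [h5 m hm, hma, mul_zero, zero_add]
    exact mul_pos (by exact_mod_cast h3) hpos
  have hkp : half D ≤ c.1 := by
    by_contra hlt
    have hneg := R.cert.coef_nonneg (R.cert.neg_lt h1) hm ((R.cert.half_le_neg_iff h1).2 (by omega))
    rw [R.cert.coef_neg h1 hm] at hneg
    omega
  refine (mem_posOut R).2 ⟨hkp, h1, fun hex => ?_⟩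
  rcases (hJ.1 _ hex).2.2 m hm with h | h
  · exact hmJ h
  · omega

theorem suffix_mem_gt {l : List ℕ} (hl : l.Pairwise (· < ·)) {a : ℕ} {m : List ℕ} (hm : (a :: m) <:+ l) {k : ℕ}
    (hk : k ∈ l) (hak : a < k) : k ∈ m := by
  obtain ⟨p, rfl⟩ := hm
  rw [List.pairwise_append] at hl
  rcases List.mem_append.1 hk with h | h
  · have := hl.2.2 k h a List.mem_cons_self
    omega
  · rcases List.mem_cons.1 h with h | h
    · omega
    · exact h

theorem goodL_posOut {J ex : List ℕ} (hJ : Closed D X J ex) : GoodL R ρ (1 : Module.End ℂ V) (posOut D ex) := by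
  refine goodL_of_normal R ρ fun a m hm s hs => ?_
  have hal : a ∈ posOut D ex := hm.subset List.mem_cons_self
  have hsl : s ∈ posOut D ex := hm.subset (List.mem_cons_of_mem _ hs)
  obtain ⟨a1, a2, -⟩ := (mem_posOut R).1 hal
  obtain ⟨s1, s2, -⟩ := (mem_posOut R).1 hsl
  by_cases hsa : s = a
  · exact Or.inl hsa
  refine Or.inr (terms_pos R a1 a2 s1 s2 hsa fun k k1 k2 k3 _ h => ?_)
  refine suffix_mem_gt R (posOut_sorted R ex) hm ((mem_posOut R).2 ⟨k2, k1, fun hex => ?_⟩) k3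
  obtain ⟨i, j, hi, hj, h⟩ := h
  have := hJ.2 s hsl
  apply this
  intro l hl
  rcases (hJ.1 k hex).2.2 l hl with h' | h'
  · exact Or.inl h'
  · refine Or.inr ?_
    have e := h l hl
    have n1 := R.cert.coef_nonneg a2 hl a1
    have n2 := R.cert.coef_nonneg s2 hl s1
    have hi' : (1 : ℤ) ≤ i := by exact_mod_cast hi
    have hj' : (1 : ℤ) ≤ j := by exact_mod_cast hj
    nlinarith

theorem commute_posOut {J ex : List ℕ} (hJ : Closed D X J ex) {a : ℕ} (ha : a < D.nroots) (haJ : Supp D X J a)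
    (t : F) : Commute (ρ (R.xe a t)) (fixOn R ρ (1 : Module.End ℂ V) (posOut D ex)) :=
  commute_fix_xe R ρ (goodL_posOut R ρ hJ) (fun _ hs => Or.inr (terms_supp R hJ ha haJ hs)) t

theorem supp_simple {i : ℕ} (hi : i < D.rank) {J : List ℕ} (hJ : i ∈ J) : Supp D X J (D.simple i) := fun l hl => by
  by_cases h : l = i
  · exact Or.inl (h ▸ hJ)
  · exact Or.inr (by rw [R.cert.coef_simple hi hl, if_neg h])

/-! ### torus elements and lifts of Weyl elements -/

theorem he_conj (i : Fin D.rank) {c : F} (hc : c ≠ 0) {r : ℕ} (hr : r < D.nroots) (u : F) :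
    R.he (D.simple i) c * R.xe r u * (R.he (D.simple i) c)⁻¹ = R.xe r (c ^ D.cartan i r * u) :=
  (R.isMon_he_simple i hc ⟨r, hr⟩).2.2.2 u

theorem he_conj' (i : Fin D.rank) {c : F} (hc : c ≠ 0) {r : ℕ} (hr : r < D.nroots) (u : F) :
    (R.he (D.simple i) c)⁻¹ * R.xe r u * R.he (D.simple i) c = R.xe r ((c ^ D.cartan i r)⁻¹ * u) := by
  have h := he_conj R i hc hr ((c ^ D.cartan i r)⁻¹ * u)
  rw [mul_inv_cancel_left₀ (zpow_ne_zero _ hc)] at h
  rw [← h]
  group

theorem commute_he {l : List ℕ} (h : GoodL R ρ (1 : Module.End ℂ V) l) (hl : ∀ r ∈ l, r < D.nroots)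
    (i : Fin D.rank) {c : F} (hc : c ≠ 0) :
    Commute (ρ (R.he (D.simple i) c)) (fixOn R ρ (1 : Module.End ℂ V) l) := by
  refine commute_fix R ρ h (fun r hr t => ?_) fun r hr t => ?_
  · rw [he_conj R i hc (hl r hr)]; exact xe_mem_Stab R ρ h hr _
  · rw [he_conj' R i hc (hl r hr)]; exact xe_mem_Stab R ρ h hr _

/-- a torus element scaling a root -/
theorem exists_scale {i : ℕ} (hi : i < D.rank) {r : ℕ} (hr : r < D.nroots)
    (hc : D.cartan i r = 1 ∨ D.cartan i r = -1) {t : F} (ht : t ≠ 0) :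
    ∃ c : F, c ≠ 0 ∧ R.he (D.simple i) c * R.xe r 1 * (R.he (D.simple i) c)⁻¹ = R.xe r t := by
  rcases hc with h | h
  · exact ⟨t, ht, by rw [he_conj R ⟨i, hi⟩ ht hr, h, zpow_one, mul_one]⟩
  · exact ⟨t⁻¹, inv_ne_zero ht, by rw [he_conj R ⟨i, hi⟩ (inv_ne_zero ht) hr, h, zpow_neg_one, inv_inv, mul_one]⟩

theorem exists_lift : ∀ w : List ℕ, (∀ i ∈ w, i < D.rank) →
    ∃ n : G, ∀ r, r < D.nroots → appW X w r < D.nroots ∧
      ∃ ε : F, ε ≠ 0 ∧ ∀ u, n * R.xe r u * n⁻¹ = R.xe (appW X w r) (ε * u)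
  | [], _ => ⟨1, fun r hr => ⟨hr, 1, one_ne_zero, fun u => by simp [appW]⟩⟩
  | i :: w, h => by
    obtain ⟨n, hn⟩ := exists_lift w fun j hj => h j (List.mem_cons_of_mem _ hj)
    have hi : i < D.rank := h i List.mem_cons_self
    refine ⟨R.ne (D.simple i) 1 * n, fun r hr => ?_⟩
    obtain ⟨hlt, ε, hε, he⟩ := hn r hr
    refine ⟨R.cert.w_lt hi hlt, (X.eta i (appW X w r) : F) * ε,
      mul_ne_zero (left_ne_zero_of_mul_eq_one (X.eta_sq_cast i _)) hε, fun u => ?_⟩
    have h2 := (R.isMon_ne_simple ⟨i, hi⟩ (one_ne_zero' F) ⟨appW X w r, hlt⟩).2.2.2 (ε * u)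
    simp only [one_zpow, mul_one, R.wperm_apply] at h2
    show R.ne (D.simple i) 1 * n * R.xe r u * (R.ne (D.simple i) 1 * n)⁻¹ = R.xe (X.w i (appW X w r)) _
    calc _ = R.ne (D.simple i) 1 * (n * R.xe r u * n⁻¹) * (R.ne (D.simple i) 1)⁻¹ := by group
      _ = _ := by rw [he, h2, mul_assoc]

/-! ### characters of a simple root -/

/-- `v` is an eigenvector of a root subgroup -/
def Eig (r : ℕ) (χ : AddChar F ℂ) (v : V) : Prop := ∀ t, ρ (R.xe r t) v = χ t • v

/-- every non-trivial character of the simple root `i` occurs on a vector fixed by the other positive roots -/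
def HasVec (i : ℕ) : Prop := ∀ χ : AddChar F ℂ, χ ≠ 0 →
  ∃ v : V, v ≠ 0 ∧ Fixed R ρ (posOut D [D.simple i]) v ∧ Eig R ρ (D.simple i) χ v

variable {R ρ}

theorem eig_of_proj {r : ℕ} {l : List ℕ} (hg : GoodL R ρ (1 : Module.End ℂ V) l)
    (hc : ∀ t, Commute (ρ (R.xe r t)) (fixOn R ρ (1 : Module.End ℂ V) l)) {χ : AddChar F ℂ}
    (h : LinearMap.trace ℂ V (proj ρ (rc R r) χ (fixOn R ρ 1 l)) ≠ 0) :
    ∃ v : V, v ≠ 0 ∧ Fixed R ρ l v ∧ Eig R ρ r χ v := by
  have hid := proj_idem ρ (rc R r) χ (fixOn_idem R ρ hg) hc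
  have h0 : proj ρ (rc R r) χ (fixOn R ρ 1 l) ≠ 0 := fun e => h (by rw [e, map_zero])
  obtain ⟨u, hu⟩ : ∃ u, proj ρ (rc R r) χ (fixOn R ρ 1 l) u ≠ 0 := by
    by_contra hh
    push Not at hh
    exact h0 (LinearMap.ext hh)
  have hfix := LinearMap.congr_fun hid u
  refine ⟨_, hu, ((fixOn_apply_iff R ρ hg _).1 ?_).2, fun t => eigen_of_proj_apply ρ (rc R r) χ hfix t⟩
  exact LinearMap.congr_fun (proj_left ρ (rc R r) χ (fixOn_idem R ρ hg) hc) u

theorem trace_ne_zero_of_vec {r : ℕ} {l : List ℕ} (hg : GoodL R ρ (1 : Module.End ℂ V) l)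
    (hc : ∀ t, Commute (ρ (R.xe r t)) (fixOn R ρ (1 : Module.End ℂ V) l)) {χ : AddChar F ℂ} {v : V} (hv : v ≠ 0)
    (hf : Fixed R ρ l v) (he : Eig R ρ r χ v) :
    LinearMap.trace ℂ V (proj ρ (rc R r) χ (fixOn R ρ 1 l)) ≠ 0 := by
  have hid := proj_idem ρ (rc R r) χ (fixOn_idem R ρ hg) hc
  have hvv := proj_apply_of_eigen ρ (rc R r) χ ((fixOn_apply_iff R ρ hg v).2 ⟨rfl, hf⟩) he
  rw [trace_idem hid, Nat.cast_ne_zero]
  have := one_le_of_fixed hid (trace_idem hid) hvv hv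
  omega

theorem closed_simple_of {i : ℕ} (h : Closed D X [i] [D.simple i]) (hi : i < D.rank) (t : F) :
    Commute (ρ (R.xe (D.simple i) t)) (fixOn R ρ (1 : Module.End ℂ V) (posOut D [D.simple i])) :=
  commute_posOut R ρ h (R.cert.simple_lt hi) (supp_simple R hi (List.mem_singleton_self i)) t

/-- one character suffices -/
theorem hasVec_of_one {i j : ℕ} (hi : i < D.rank) (hj : j < D.rank) (h : Closed D X [i] [D.simple i])
    (hc : D.cartan j (D.simple i) = 1 ∨ D.cartan j (D.simple i) = -1) {χ : AddChar F ℂ} (hχ : χ ≠ 0) {v : V}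
    (hv : v ≠ 0) (hf : Fixed R ρ (posOut D [D.simple i]) v) (he : Eig R ρ (D.simple i) χ v) :
    HasVec R ρ i := by
  intro χ' hχ'
  have hg := goodL_posOut R ρ h
  refine eig_of_proj hg (closed_simple_of h hi) ?_
  rw [trace_proj_const R ρ (fun t ht => ?_) hχ' hχ]
  · exact trace_ne_zero_of_vec hg (closed_simple_of h hi) hv hf he
  · obtain ⟨c, hc0, e⟩ := exists_scale R hj (R.cert.simple_lt hi) hc ht
    exact ⟨_, e, commute_he R ρ hg (fun r hr => ((mem_posOut R).1 hr).2.1) ⟨j, hj⟩ hc0⟩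

end CfsgLib.PLocal.Rad
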