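/-
Characters of a simple root propagate to adjacent simple roots.
-/
import Cfsg.Agent.Lib.PLocal.Rad.Pos

set_option autoImplicit false
set_option linter.unusedSectionVars false

namespace CfsgLib.PLocal.Rad

open Module CfsgLib.Lie.Chev CfsgLib.PLocal.Triality
open Cfsg.Lie (ChevalleyDatum)

/-- the checks for two adjacent simple roots with sum `k` -/
def Edge (D : ChevalleyDatum) (X : Aux) (i j k : ℕ) : Prop :=
  i < D.rank ∧ j < D.rank ∧ Closed D X [i] [D.simple i] ∧ Closed D X [j] [D.simple j] ∧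
    Closed D X [i, j] [D.simple i, D.simple j, k] ∧
    Terms D (D.simple i) k [] ∧ Terms D (D.simple j) k [] ∧
    One D (D.simple i) (D.simple j) k ∧ One D (D.simple j) (D.simple i) k ∧
    One D (D.neg (D.simple i)) k (D.simple j) ∧ One D (D.neg (D.simple j)) k (D.simple i) ∧
    D.cartan i (D.simple j) = -1

instance (D : ChevalleyDatum) (X : Aux) (i j k : ℕ) : Decidable (Edge D X i j k) := by
  unfold Edge; infer_instance

variable {D : ChevalleyDatum} {X : Aux} {F : Type*} [Field F] [Fintype F] {G : Type*} [Group G] (R : Rel D X F G)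
variable {V : Type*} [AddCommGroup V] [Module ℂ V] [FiniteDimensional ℂ V] (ρ : Representation ℂ G V)
include R

theorem Terms.mono {r s : ℕ} {l l' : List ℕ} (h : Terms D r s l) (hl : ∀ k ∈ l, k ∈ l') : Terms D r s l' :=
  ⟨h.1, h.2.1, h.2.2.1, h.2.2.2.1, fun c hc => hl _ (h.2.2.2.2 c hc)⟩

theorem supp_neg_simple {i : ℕ} (hi : i < D.rank) {J : List ℕ} (hJ : i ∈ J) :
    Supp D X J (D.neg (D.simple i)) := fun l hl => by
  rcases supp_simple R hi hJ l hl with h | h
  · exact Or.inl h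
  · exact Or.inr (by rw [R.cert.coef_neg (R.cert.simple_lt hi) hl, h, neg_zero])

theorem Fixed.mono {l l' : List ℕ} {v : V} (h : Fixed R ρ l v) (hl : ∀ r ∈ l', r ∈ l) : Fixed R ρ l' v :=
  fun r hr => h r (hl r hr)

/-- one side of the transfer: all non-trivial elements of the two roots have the trace of `f` -/
theorem trace_side {a b k : ℕ} {Q : Module.End ℂ V} (hab : One D a b k) (hk : One D (D.neg a) k b)
    (hbk : Terms D b k [])
    (hQb : ∀ t, Commute (ρ (R.xe a t)) Q) (hQn : ∀ t, Commute (ρ (R.xe (D.neg a) t)) Q) (s u : F)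
    (h : s ≠ 0 ∨ u ≠ 0) :
    LinearMap.trace ℂ V (ρ (R.xe b s * R.xe k u) * Q) = LinearMap.trace ℂ V (ρ (R.xe k 1) * Q) := by
  obtain ⟨ε, hε, e⟩ := hab.swap R
  obtain ⟨δ, hδ, e'⟩ := hk.swap R
  -- elements with `u ≠ 0`
  have h1 : ∀ u : F, u ≠ 0 → ∀ s, LinearMap.trace ℂ V (ρ (R.xe k u * R.xe b s) * Q) =
      LinearMap.trace ℂ V (ρ (R.xe k u) * Q) := fun u hu s => by
    refine trace_conj ρ (g := R.xe (D.neg a) (-(s / (δ * u)))) ?_ (hQn _)
    have := e' (s / (δ * u)) u
    rw [show δ * (s / (δ * u)) * u = s by field_simp] at this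
    rw [← R.xe_neg, neg_neg, mul_assoc, this, ← mul_assoc, ← mul_assoc, R.xe_add', neg_add_cancel, R.xe_zero,
      one_mul]
  -- elements with `s ≠ 0`
  have h2 : ∀ s : F, s ≠ 0 → ∀ u, LinearMap.trace ℂ V (ρ (R.xe b s * R.xe k u) * Q) =
      LinearMap.trace ℂ V (ρ (R.xe b s) * Q) := fun s hs u => by
    refine trace_conj ρ (g := R.xe a (-(u / (ε * s)))) ?_ (hQb _)
    have := e (u / (ε * s)) s
    rw [show ε * (u / (ε * s)) * s = u by field_simp] at this
    rw [← R.xe_neg, neg_neg, mul_assoc, this, ← mul_assoc, ← mul_assoc, R.xe_add', neg_add_cancel, R.xe_zero,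
      one_mul]
  have hcomm : ∀ s u : F, R.xe b s * R.xe k u = R.xe k u * R.xe b s := fun s u => by
    obtain ⟨P, hP, e''⟩ := hbk.swap R (H := ⊥) (fun _ h => absurd h List.not_mem_nil) s u
    rw [Subgroup.mem_bot.1 hP, mul_one] at e''
    exact e''.symm
  have hk1 : ∀ u : F, u ≠ 0 → LinearMap.trace ℂ V (ρ (R.xe k u) * Q) =
      LinearMap.trace ℂ V (ρ (R.xe b 1) * Q) := fun u hu => by
    rw [← h2 1 one_ne_zero u, hcomm, h1 u hu]
  rcases eq_or_ne u 0 with rfl | hu
  · have hs : s ≠ 0 := h.resolve_right fun h => h rfl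
    rw [R.xe_zero, mul_one, ← h2 s hs 1, hcomm, h1 1 one_ne_zero]
  · rw [hcomm, h1 u hu, hk1 u hu, hk1 1 one_ne_zero]

theorem trace_fix_two {b k : ℕ} (Q : Module.End ℂ V) {c : ℂ}
    (h : ∀ s u : F, s ≠ 0 ∨ u ≠ 0 → LinearMap.trace ℂ V (ρ (R.xe b s * R.xe k u) * Q) = c) :
    (Fintype.card F : ℂ) * ((Fintype.card F : ℂ) *
      LinearMap.trace ℂ V (proj ρ (rc R b) 0 (proj ρ (rc R k) 0 Q))) =
      LinearMap.trace ℂ V Q + ((Fintype.card F : ℂ) * (Fintype.card F : ℂ) - 1) * c := by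
  classical
  have key : ∀ p : F × F, LinearMap.trace ℂ V (ρ (R.xe b p.1 * R.xe k p.2) * Q) =
      c + if p = 0 then LinearMap.trace ℂ V Q - c else 0 := fun p => by
    split_ifs with hp
    · subst hp
      simp [R.xe_zero]
    · rw [add_zero]
      refine h _ _ (not_and_or.1 fun hh => hp (Prod.ext hh.1 hh.2))
  simp only [proj, AddChar.zero_apply, one_smul, map_smul, map_sum, smul_eq_mul, mul_smul_comm, Finset.mul_sum,
    rc_apply, ← mul_assoc, ← map_mul, mul_inv_cancel₀ card_ne_zero', one_mul]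
  rw [← Fintype.sum_prod_type', Finset.sum_congr rfl fun p _ => key p, Finset.sum_add_distrib, Finset.sum_const,
    Finset.sum_ite_eq', if_pos (Finset.mem_univ _), Finset.card_univ, Fintype.card_prod, nsmul_eq_mul,
    Nat.cast_mul]
  ring

/-- the transfer along an edge -/
theorem HasVec.transfer {i j k : ℕ} (hE : Edge D X i j k) (h : HasVec R ρ i) : HasVec R ρ j := by
  classical
  obtain ⟨hi, hj, hci, hcj, hc, ta, tb, oij, oji, oni, onj, hcart⟩ := hE
  obtain ⟨a, ha⟩ : ∃ a, a = D.simple i := ⟨_, rfl⟩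
  obtain ⟨b, hb⟩ : ∃ b, b = D.simple j := ⟨_, rfl⟩
  simp only [← ha, ← hb] at hci hcj hc ta tb oij oji oni onj hcart
  have iJ : i ∈ [i, j] := List.mem_cons_self
  have jJ : j ∈ [i, j] := List.mem_cons_of_mem _ List.mem_cons_self
  set l3 := posOut D [a, b, k] with hl3
  have g3 : GoodL R ρ (1 : Module.End ℂ V) l3 := goodL_posOut R ρ hc
  have hka := (hc.1 k (by simp)).2
  have gk : GoodL R ρ (1 : Module.End ℂ V) (k :: l3) := ⟨g3, commute_posOut R ρ hc hka.1 hka.2⟩
  have sa : Supp D X [i, j] a := ha ▸ supp_simple R hi iJ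
  have sb : Supp D X [i, j] b := hb ▸ supp_simple R hj jJ
  have la : a < D.nroots := ha ▸ R.cert.simple_lt hi
  have lb : b < D.nroots := hb ▸ R.cert.simple_lt hj
  have ck : ∀ c, c < D.nroots → Supp D X [i, j] c → Terms D c k [] →
      ∀ t, Commute (ρ (R.xe c t)) (fixOn R ρ (1 : Module.End ℂ V) (k :: l3)) := fun c hc1 hc2 hc3 t =>
    commute_fix_xe R ρ gk (fun s hs => Or.inr (by
      rcases List.mem_cons.1 hs with rfl | hs
      · exact hc3.mono R fun _ h => absurd h List.not_mem_nil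
      · exact (terms_supp R hc hc1 hc2 hs).mono R fun r hr => List.mem_cons_of_mem _ hr)) t
  have gbk : GoodL R ρ (1 : Module.End ℂ V) (b :: k :: l3) := ⟨gk, ck b lb sb tb⟩
  have gak : GoodL R ρ (1 : Module.End ℂ V) (a :: k :: l3) := ⟨gk, ck a la sa ta⟩
  have gA := goodL_posOut R ρ hci
  have gB := goodL_posOut R ρ hcj
  have hab : a ≠ b := oij.2.2.1.symm
  have hak : k ≠ a := ta.2.2.1
  have hbk : k ≠ b := tb.2.2.1
  have sameA : ∀ r, r ∈ posOut D [a] ↔ r ∈ b :: k :: l3 := fun r => by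
    simp only [hl3, List.mem_cons, mem_posOut R, List.not_mem_nil, or_false]
    constructor
    · rintro ⟨h1, h2, h3⟩; tauto
    · rintro (rfl | rfl | ⟨h1, h2, h3⟩)
      · exact ⟨hb ▸ R.cert.simple_pos hj, lb, hab.symm⟩
      · exact ⟨(hc.1 r (by simp)).1, hka.1, hak⟩
      · exact ⟨h1, h2, fun e => h3 (Or.inl e)⟩
  have sameB : ∀ r, r ∈ posOut D [b] ↔ r ∈ a :: k :: l3 := fun r => by
    simp only [hl3, List.mem_cons, mem_posOut R, List.not_mem_nil, or_false]
    constructor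
    · rintro ⟨h1, h2, h3⟩; tauto
    · rintro (rfl | rfl | ⟨h1, h2, h3⟩)
      · exact ⟨ha ▸ R.cert.simple_pos hi, la, hab⟩
      · exact ⟨(hc.1 r (by simp)).1, hka.1, hbk⟩
      · exact ⟨h1, h2, fun e => h3 (Or.inr (Or.inl e))⟩
  -- equal dimensions of the two fixed spaces
  have cQ : ∀ c, c < D.nroots → Supp D X [i, j] c →
      ∀ t, Commute (ρ (R.xe c t)) (fixOn R ρ (1 : Module.End ℂ V) l3) := fun c h1 h2 => commute_posOut R ρ hc h1 h2
  have sna : Supp D X [i, j] (D.neg a) := ha ▸ supp_neg_simple R hi iJ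
  have snb : Supp D X [i, j] (D.neg b) := hb ▸ supp_neg_simple R hj jJ
  have t1 := trace_fix_two R ρ (fixOn R ρ 1 l3)
    (trace_side R ρ oij oni tb (cQ a la sa) (cQ _ (R.cert.neg_lt la) sna))
  have t2 := trace_fix_two R ρ (fixOn R ρ 1 l3)
    (trace_side R ρ oji onj ta (cQ b lb sb) (cQ _ (R.cert.neg_lt lb) snb))
  have hAB : LinearMap.trace ℂ V (fixOn R ρ 1 (posOut D [a])) =
      LinearMap.trace ℂ V (fixOn R ρ 1 (posOut D [b])) := by
    rw [trace_congr (fixOn_idem R ρ gA) (fixOn_idem R ρ gbk) fun v => by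
        rw [fixOn_apply_iff R ρ gA, fixOn_apply_iff R ρ gbk]; exact and_congr_right fun _ =>
          ⟨fun h r hr => h r ((sameA r).2 hr), fun h r hr => h r ((sameA r).1 hr)⟩,
      trace_congr (fixOn_idem R ρ gB) (fixOn_idem R ρ gak) fun v => by
        rw [fixOn_apply_iff R ρ gB, fixOn_apply_iff R ρ gak]; exact and_congr_right fun _ =>
          ⟨fun h r hr => h r ((sameB r).2 hr), fun h r hr => h r ((sameB r).1 hr)⟩]
    exact mul_left_cancel₀ (card_ne_zero' (B := F)) (mul_left_cancel₀ (card_ne_zero' (B := F)) (t1.trans t2.symm))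
  have cA : ∀ t, Commute (ρ (R.xe a t)) (fixOn R ρ (1 : Module.End ℂ V) (posOut D [a])) := fun t => by
    subst ha; exact closed_simple_of hci hi t
  have cB : ∀ t, Commute (ρ (R.xe b t)) (fixOn R ρ (1 : Module.End ℂ V) (posOut D [b])) := fun t => by
    subst hb; exact closed_simple_of hcj hj t
  have gAU : GoodL R ρ (1 : Module.End ℂ V) (a :: posOut D [a]) := ⟨gA, cA⟩
  have gBU : GoodL R ρ (1 : Module.End ℂ V) (b :: posOut D [b]) := ⟨gB, cB⟩
  have hU : LinearMap.trace ℂ V (proj ρ (rc R a) 0 (fixOn R ρ 1 (posOut D [a]))) =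
      LinearMap.trace ℂ V (proj ρ (rc R b) 0 (fixOn R ρ 1 (posOut D [b]))) := by
    refine trace_congr (fixOn_idem R ρ gAU) (fixOn_idem R ρ gBU) fun v => ?_
    rw [show proj ρ (rc R a) 0 (fixOn R ρ 1 (posOut D [a])) = fixOn R ρ 1 (a :: posOut D [a]) from rfl,
      show proj ρ (rc R b) 0 (fixOn R ρ 1 (posOut D [b])) = fixOn R ρ 1 (b :: posOut D [b]) from rfl,
      fixOn_apply_iff R ρ gAU, fixOn_apply_iff R ρ gBU]
    refine and_congr_right fun _ => ⟨fun h r hr => h r ?_, fun h r hr => h r ?_⟩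
    · rcases List.mem_cons.1 hr with rfl | hr
      · exact List.mem_cons_of_mem _ ((sameA r).2 List.mem_cons_self)
      · rcases List.mem_cons.1 ((sameB r).1 hr) with rfl | hr
        · exact List.mem_cons_self
        · exact List.mem_cons_of_mem _ ((sameA r).2 (List.mem_cons_of_mem _ hr))
    · rcases List.mem_cons.1 hr with rfl | hr
      · exact List.mem_cons_of_mem _ ((sameB r).2 List.mem_cons_self)
      · rcases List.mem_cons.1 ((sameA r).1 hr) with rfl | hr
        · exact List.mem_cons_self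
        · exact List.mem_cons_of_mem _ ((sameB r).2 (List.mem_cons_of_mem _ hr))
  obtain ⟨χ0, hχ0⟩ : ∃ χ : AddChar F ℂ, χ ≠ 0 := by
    have : Nontrivial (AddChar F ℂ) :=
      Fintype.one_lt_card_iff_nontrivial.1 (by rw [AddChar.card_eq]; exact Fintype.one_lt_card)
    exact exists_ne 0
  subst ha hb
  -- some non-trivial character of the second root occurs
  by_contra hno
  have hzero : ∀ χ : AddChar F ℂ, χ ≠ 0 →
      LinearMap.trace ℂ V (proj ρ (rc R (D.simple j)) χ (fixOn R ρ 1 (posOut D [D.simple j]))) = 0 := by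
    intro χ hχ
    by_contra hne
    obtain ⟨v, hv, hf, he⟩ := eig_of_proj gB cB hne
    exact hno (hasVec_of_one hj hi hcj (Or.inr hcart) hχ hv hf he)
  have sB : LinearMap.trace ℂ V (proj ρ (rc R (D.simple j)) 0 (fixOn R ρ 1 (posOut D [D.simple j]))) =
      LinearMap.trace ℂ V (fixOn R ρ 1 (posOut D [D.simple j])) := by
    conv_rhs => rw [← sum_proj ρ (rc R (D.simple j)) (P := fixOn R ρ 1 (posOut D [D.simple j])), map_sum]
    rw [Finset.sum_eq_single 0 (fun χ _ hχ => hzero χ hχ) fun h => absurd (Finset.mem_univ _) h]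
  obtain ⟨v, hv, hf, he⟩ := h χ0 hχ0
  have sA : LinearMap.trace ℂ V (fixOn R ρ 1 (posOut D [D.simple i])) =
      LinearMap.trace ℂ V (proj ρ (rc R (D.simple i)) 0 (fixOn R ρ 1 (posOut D [D.simple i]))) +
        ∑ χ ∈ Finset.univ.erase (0 : AddChar F ℂ),
          LinearMap.trace ℂ V (proj ρ (rc R (D.simple i)) χ (fixOn R ρ 1 (posOut D [D.simple i]))) := by
    conv_lhs => rw [← sum_proj ρ (rc R (D.simple i)) (P := fixOn R ρ 1 (posOut D [D.simple i])), map_sum]
    exact (Finset.add_sum_erase _ _ (Finset.mem_univ _)).symm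
  rw [hAB, ← sB, ← hU, eq_comm, add_eq_left] at sA
  have hidA : ∀ χ, ∃ n : ℕ,
      LinearMap.trace ℂ V (proj ρ (rc R (D.simple i)) χ (fixOn R ρ 1 (posOut D [D.simple i]))) = n := fun χ =>
    ⟨_, trace_idem (proj_idem ρ _ χ (fixOn_idem R ρ gA) cA)⟩
  choose n hn using hidA
  simp only [hn] at sA
  rw [← Nat.cast_sum, Nat.cast_eq_zero, Finset.sum_eq_zero_iff] at sA
  have := sA χ0 (Finset.mem_erase.2 ⟨hχ0, Finset.mem_univ _⟩)
  exact trace_ne_zero_of_vec gA cA hv hf he (by rw [hn, this, Nat.cast_zero])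

end CfsgLib.PLocal.Rad
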