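/-
Counting the characters seen on the positive root subgroups.
-/
import Cfsg.Agent.Lib.PLocal.Rad.Transfer

set_option autoImplicit false
set_option linter.unusedSectionVars false

namespace CfsgLib.PLocal.Rad

open Module CfsgLib.Lie.Chev CfsgLib.PLocal.Triality
open Cfsg.Lie (ChevalleyDatum)

/-- the data attached to a positive root `γ`: a Weyl word sending the simple root `i` to `γ`, a decomposition
`γ = c + a` for the pairs `(c, a)` and a linear functional singling out `γ` -/
structure Cell where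
  /-- the root -/
  γ : ℕ
  /-- the simple root -/
  i : ℕ
  /-- the word -/
  w : List ℕ
  /-- the decompositions -/
  pairs : List (ℕ × ℕ)
  /-- the functional -/
  f : List ℤ

/-- `∑ f l * coef l r`, starting at the index `l` -/
def linFrom (X : Aux) (r : ℕ) : List ℤ → ℕ → ℤ
  | [], _ => 0
  | c :: cs, l => if c = 0 then linFrom X r cs (l + 1) else X.coef l r * c + linFrom X r cs (l + 1)

/-- a linear functional on roots given by its values on the simple roots -/
def lin (X : Aux) (f : List ℤ) (r : ℕ) : ℤ := linFrom X r f 0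

/-- the roots above `m` -/
def above (D : ChevalleyDatum) (m : ℕ) : List ℕ := List.range' m (D.nroots - m)

/-- the root is the image under `w` of a positive root other than `s` -/
def BaseOK (D : ChevalleyDatum) (X : Aux) (w : List ℕ) (s δ : ℕ) : Prop :=
  half D ≤ appW X w.reverse δ ∧ appW X w.reverse δ < D.nroots ∧ appW X w.reverse δ ≠ s ∧
    appW X w (appW X w.reverse δ) = δ

instance (D : ChevalleyDatum) (X : Aux) (w : List ℕ) (s δ : ℕ) : Decidable (BaseOK D X w s δ) := by
  unfold BaseOK; infer_instance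

/-- the checks for a cell -/
def CellOK (D : ChevalleyDatum) (X : Aux) (C : Cell) : Prop :=
  (half D ≤ C.γ ∧ C.γ < D.nroots) ∧ (C.i < D.rank ∧ (∀ j ∈ C.w, j < D.rank) ∧ appW X C.w (D.simple C.i) = C.γ) ∧
    C.f.length = D.rank ∧
    (∀ δ ∈ above D (C.γ + 1), BaseOK D X C.w (D.simple C.i) δ) ∧
    (C.pairs.map Prod.fst ++ C.pairs.map Prod.snd).Nodup ∧
    (∀ p ∈ C.pairs, half D ≤ p.1 ∧ p.1 < C.γ ∧ half D ≤ p.2 ∧ p.2 < C.γ ∧
      One D p.2 p.1 C.γ ∧ BaseOK D X C.w (D.simple C.i) p.1 ∧ lin X C.f p.1 = 1 ∧ lin X C.f p.2 = 1 ∧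
      ∀ l < D.rank, X.coef l C.γ = X.coef l p.1 + X.coef l p.2) ∧
    lin X C.f C.γ = 2 ∧ ∀ k ∈ above D (half D), k = C.γ ∨ lin X C.f k < 2

instance (D : ChevalleyDatum) (X : Aux) (C : Cell) : Decidable (CellOK D X C) := by unfold CellOK; infer_instance

/-- the coordinates of the roots are distinct -/
def CoefInj (D : ChevalleyDatum) (X : Aux) : Prop :=
  ((List.range D.nroots).map fun r => (List.range D.rank).map fun l => X.coef l r).Nodup

instance (D : ChevalleyDatum) (X : Aux) : Decidable (CoefInj D X) := by unfold CoefInj; infer_instance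

variable {D : ChevalleyDatum} {X : Aux} {F : Type*} [Field F] [Fintype F] {G : Type*} [Group G] (R : Rel D X F G)
variable {V : Type*} [AddCommGroup V] [Module ℂ V] [FiniteDimensional ℂ V] (ρ : Representation ℂ G V)
include R

theorem mem_above {m k : ℕ} : k ∈ above D m ↔ m ≤ k ∧ k < D.nroots := by
  simp only [above, List.mem_range'_1]
  omega

theorem goodL_above {m : ℕ} (hm : half D ≤ m) : GoodL R ρ (1 : Module.End ℂ V) (above D m) := by
  refine goodL_of_normal R ρ fun a l hl s hs => ?_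
  obtain ⟨a1, a2⟩ := (mem_above R).1 (hl.subset List.mem_cons_self)
  obtain ⟨s1, s2⟩ := (mem_above R).1 (hl.subset (List.mem_cons_of_mem _ hs))
  by_cases h : s = a
  · exact Or.inl h
  refine Or.inr (terms_pos R (le_trans hm a1) a2 (le_trans hm s1) s2 h fun k k1 _ k3 _ _ => ?_)
  exact suffix_mem_gt R List.pairwise_lt_range' hl ((mem_above R).2 ⟨by omega, k1⟩) k3

theorem terms_above {m a s : ℕ} (ha : half D ≤ a) (ha' : a < D.nroots) (hs : half D ≤ s) (hs' : s < D.nroots)
    (hne : s ≠ a) (h : m ≤ a + 1 ∨ m ≤ s + 1) : Terms D a s (above D m) :=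
  terms_pos R ha ha' hs hs' hne fun k k1 _ k3 k4 _ => (mem_above R).2 ⟨by omega, k1⟩

theorem commute_above {m a : ℕ} (hm : half D ≤ m) (ha : half D ≤ a) (ha' : a < D.nroots) (t : F) :
    Commute (ρ (R.xe a t)) (fixOn R ρ (1 : Module.End ℂ V) (above D m)) :=
  commute_fix_xe R ρ (goodL_above R ρ hm) (fun s hs => by
    obtain ⟨s1, s2⟩ := (mem_above R).1 hs
    by_cases h : s = a
    · exact Or.inl h
    · exact Or.inr (terms_above R ha ha' (le_trans hm s1) s2 h (Or.inr (by omega)))) t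

omit R in
theorem lin_comb {f : List ℤ} (hf : f.length = D.rank) {a c k : ℕ} {i j : ℤ}
    (h : ∀ m, m < D.rank → X.coef m k = i * X.coef m a + j * X.coef m c) :
    lin X f k = i * lin X f a + j * lin X f c := by
  suffices key : ∀ (g : List ℤ) (b : ℕ), b + g.length ≤ D.rank →
      linFrom X k g b = i * linFrom X a g b + j * linFrom X c g b from key f 0 (by omega)
  intro g
  induction g with
  | nil => intro b _; simp [linFrom]
  | cons x g ih =>
    intro b hb
    rw [List.length_cons] at hb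
    simp only [linFrom, ih (b + 1) (by omega)]
    split_ifs with hx
    · ring
    · rw [h b (by omega)]; ring

omit R in
theorem coef_inj (hI : CoefInj D X) {r s : ℕ} (hr : r < D.nroots) (hs : s < D.nroots)
    (h : ∀ l < D.rank, X.coef l r = X.coef l s) : r = s := by
  have := List.inj_on_of_nodup_map hI (List.mem_range.2 hr) (List.mem_range.2 hs)
    (List.map_congr_left fun l hl => h l (List.mem_range.1 hl))
  exact this

/-- two roots with value one have no commutator unless they sum to `γ` -/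
theorem terms_one (hI : CoefInj D X) {C : Cell} (hC : CellOK D X C) {r s : ℕ} (hr : half D ≤ r)
    (hr' : r < D.nroots) (hs : half D ≤ s) (hs' : s < D.nroots) (hne : s ≠ r) (lr : lin X C.f r = 1)
    (ls : lin X C.f s = 1) (hsum : ¬ ∀ l < D.rank, X.coef l C.γ = X.coef l r + X.coef l s) :
    Terms D r s ([] : List ℕ) := by
  obtain ⟨-, -, hf, -, -, -, hγ, hk⟩ := hC
  refine terms_pos R hr hr' hs hs' hne fun k k1 k2 _ _ ⟨i, j, hi, hj, h⟩ => absurd ?_ hsum
  have e := lin_comb (f := C.f) hf h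
  rw [lr, ls] at e
  rcases hk k ((mem_above R).2 ⟨k2, k1⟩) with rfl | hlt
  · rw [hγ] at e
    have hi1 : (i : ℤ) = 1 := by omega
    have hj1 : (j : ℤ) = 1 := by omega
    intro l hl
    rw [h l hl, hi1, hj1, one_mul, one_mul]
  · omega

/-- a group element absorbed on the left -/
def LStab (Q : Module.End ℂ V) : Subgroup G where
  carrier := {g | ρ g * Q = Q}
  one_mem' := by simp
  mul_mem' := by
    intro g h (g1 : ρ g * Q = Q) (h1 : ρ h * Q = Q)
    show ρ (g * h) * Q = Q
    rw [map_mul, mul_assoc, h1, g1]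
  inv_mem' := by
    intro g (g1 : ρ g * Q = Q)
    show ρ g⁻¹ * Q = Q
    nth_rewrite 1 [← g1]
    rw [← mul_assoc, ← map_mul, inv_mul_cancel, map_one, one_mul]

/-- a projection whose range meets all characters of a list of roots has large rank -/
theorem rank_ge (l : List ℕ) : ∀ (cs : List ℕ), cs.Nodup → (∀ c ∈ cs, ∀ c' ∈ cs, c' ≠ c → Terms D c c' l) →
    ∀ Q : Module.End ℂ V, Q * Q = Q → (∀ c ∈ cs, ∀ t, Commute (ρ (R.xe c t)) Q) →
    (∀ k ∈ l, ∀ t, ρ (R.xe k t) * Q = Q) →
    (∀ ψ : ℕ → AddChar F ℂ, ∃ v, v ≠ 0 ∧ Q v = v ∧ ∀ c ∈ cs, Eig R ρ c (ψ c) v) →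
    ∀ n : ℕ, LinearMap.trace ℂ V Q = n → Fintype.card F ^ cs.length ≤ n
  | [], _, _, Q, hQ, _, _, hv, n, hn => by
    obtain ⟨v, hv0, hQv, -⟩ := hv fun _ => 0
    simpa using one_le_of_fixed hQ hn hQv hv0
  | c :: cs, hnd, hterms, Q, hQ, hc, hl, hv, n, hn => by
    classical
    have hcQ := hc c List.mem_cons_self
    have hidem := fun χ => proj_idem ρ (rc R c) χ hQ hcQ
    choose m hm using fun χ => (⟨_, trace_idem (hidem χ)⟩ :
      ∃ m : ℕ, LinearMap.trace ℂ V (proj ρ (rc R c) χ Q) = m)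
    have hsum : ∑ χ, m χ = n := by
      apply Nat.cast_injective (R := ℂ)
      rw [Nat.cast_sum, ← hn, ← sum_proj ρ (rc R c) (P := Q), map_sum]
      exact Finset.sum_congr rfl fun χ _ => (hm χ).symm
    obtain ⟨hcn, hnd'⟩ := List.nodup_cons.1 hnd
    have key : ∀ χ : AddChar F ℂ, Fintype.card F ^ cs.length ≤ m χ := by
      intro χ
      refine rank_ge l cs hnd'
        (fun a ha b hb => hterms a (List.mem_cons_of_mem _ ha) b (List.mem_cons_of_mem _ hb))
        (proj ρ (rc R c) χ Q) (hidem χ) (fun c' hc' t => ?_) (fun k hk t => ?_) (fun ψ => ?_) (m χ) (hm χ)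
      · refine proj_commute ρ (rc R c) χ hQ hcQ fun u => ?_
        obtain ⟨P, hP, e⟩ := (hterms c' (List.mem_cons_of_mem _ hc') c List.mem_cons_self
          (by rintro rfl; exact hcn hc')).swap R (H := LStab ρ Q) hl t u
        refine (?_ : ρ (R.xe c' t) * (ρ (R.xe c u) * Q) = ρ (R.xe c u) * Q * ρ (R.xe c' t))
        have e' : ρ (R.xe c u) * ρ (R.xe c' t) * Q = ρ (R.xe c' t) * ρ (R.xe c u) * Q := by
          rw [← map_mul, e, map_mul, mul_assoc, (show ρ P * Q = Q from hP), map_mul]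
        rw [← mul_assoc, ← e', mul_assoc, (hc c' (List.mem_cons_of_mem _ hc') t).eq, ← mul_assoc]
      · rw [← proj_left ρ (rc R c) χ hQ hcQ, ← mul_assoc, hl k hk t]
      · obtain ⟨v, hv0, hQv, he⟩ := hv (Function.update ψ c χ)
        refine ⟨v, hv0, proj_apply_of_eigen ρ (rc R c) χ hQv ?_, fun c' hc' => ?_⟩
        · have := he c List.mem_cons_self
          rwa [Function.update_self] at this
        · have := he c' (List.mem_cons_of_mem _ hc')
          rwa [Function.update_of_ne (by rintro rfl; exact hcn hc')] at this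
    calc Fintype.card F ^ (c :: cs).length = ∑ _χ : AddChar F ℂ, Fintype.card F ^ cs.length := by
          rw [Finset.sum_const, Finset.card_univ, AddChar.card_eq, smul_eq_mul, List.length_cons, pow_succ, mul_comm]
      _ ≤ ∑ χ, m χ := Finset.sum_le_sum fun χ _ => key χ
      _ = n := hsum

omit R in
theorem exists_mulShift {χ : AddChar F ℂ} (hχ : χ ≠ 0) (ψ : AddChar F ℂ) : ∃ c, χ.mulShift c = ψ := by
  refine ((Fintype.bijective_iff_injective_and_card _).2 ⟨fun c c' h => ?_, (AddChar.card_eq (α := F)).symm⟩).2 ψ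
  by_contra hne
  refine hχ (DFunLike.ext _ _ fun r => ?_)
  have := DFunLike.congr_fun h ((c - c')⁻¹ * r)
  rw [AddChar.mulShift_apply, AddChar.mulShift_apply] at this
  rw [AddChar.zero_apply, show r = c * ((c - c')⁻¹ * r) + -(c' * ((c - c')⁻¹ * r)) by
    rw [← sub_eq_add_neg, ← sub_mul, mul_inv_cancel_left₀ (sub_ne_zero.2 hne)], AddChar.map_add_eq_mul,
    this, ← AddChar.map_add_eq_mul, add_neg_cancel, AddChar.map_zero_eq_one]

/-- moving an eigenvector by a root element whose commutators fix it -/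
theorem Eig.move {a s : ℕ} {l : List ℕ} (h : Terms D a s l) {v : V} (hv : Fixed R ρ l v) {χ : AddChar F ℂ}
    (he : Eig R ρ s χ v) (t : F) : Eig R ρ s χ (ρ (R.xe a t) v) := fun u => by
  rw [h.move R ρ hv t u, he u, map_smul]

/-- the vectors of a cell -/
theorem exists_cell_vec (hI : CoefInj D X) {C : Cell} (hC : CellOK D X C) (h : HasVec R ρ C.i)
    {χ : AddChar F ℂ} (hχ : χ ≠ 0) :
    ∀ done : List (ℕ × ℕ), done.Nodup → (∀ p ∈ done, p ∈ C.pairs) → ∀ ψ : ℕ → AddChar F ℂ,
      ∃ v, v ≠ 0 ∧ Fixed R ρ (above D (C.γ + 1)) v ∧ Eig R ρ C.γ χ v ∧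
        ∀ p ∈ C.pairs, Eig R ρ p.1 (if p ∈ done then ψ p.1 else 0) v := by
  have hC' := hC
  obtain ⟨⟨hγ, hγ'⟩, ⟨hi, hw, hwγ⟩, hf, habove, hnd, hp, -, -⟩ := hC'
  intro done
  induction done with
  | nil =>
    intro _ _ ψ
    obtain ⟨n, hn⟩ := exists_lift R C.w hw
    obtain ⟨-, ε, hε, hen⟩ := hn (D.simple C.i) (R.cert.simple_lt hi)
    rw [hwγ] at hen
    obtain ⟨v, hv0, hvf, hve⟩ := h (χ.mulShift ε) (fun e => hχ (DFunLike.ext _ _ fun r => by
      have := DFunLike.congr_fun e (ε⁻¹ * r)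
      rwa [AddChar.mulShift_apply, mul_inv_cancel_left₀ hε] at this))
    have fix : ∀ δ, BaseOK D X C.w (D.simple C.i) δ → ∀ t, ρ (R.xe δ t) (ρ n v) = ρ n v := by
      intro δ ⟨b1, b2, b3, b4⟩ t
      obtain ⟨-, e0, he0, hee⟩ := hn _ b2
      rw [b4] at hee
      have := hee (e0⁻¹ * t)
      rw [mul_inv_cancel_left₀ he0] at this
      rw [← app, ← this, inv_mul_cancel_right, app,
        hvf _ ((mem_posOut R).2 ⟨b1, b2, fun hh => b3 (List.mem_singleton.1 hh)⟩)]
    refine ⟨ρ n v, app_ne_zero ρ n hv0, fun δ hδ => fix δ (habove δ hδ), fun t => ?_,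
      fun p hp' u => ?_⟩
    · have := hen (ε⁻¹ * t)
      rw [mul_inv_cancel_left₀ hε] at this
      rw [← app, ← this, inv_mul_cancel_right, app, hve, AddChar.mulShift_apply, mul_inv_cancel_left₀ hε,
        map_smul]
    · rw [if_neg List.not_mem_nil, AddChar.zero_apply, one_smul]
      exact fix _ (hp p hp').2.2.2.2.2.1 u
  | cons p0 done ih =>
    intro hdn hsub ψ
    obtain ⟨hp0, hdn'⟩ := List.nodup_cons.1 hdn
    obtain ⟨v, hv0, hvf, hvγ, hvp⟩ := ih hdn' (fun p hh => hsub p (List.mem_cons_of_mem _ hh)) ψ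
    have hp0' := hsub p0 List.mem_cons_self
    obtain ⟨c1, c2, a1, a2, hone, -, lc, la, hsum⟩ := hp p0 hp0'
    obtain ⟨ε, hε, e⟩ := hone.swap R
    obtain ⟨c0, hc0⟩ := exists_mulShift hχ (ψ p0.1)
    refine ⟨ρ (R.xe p0.2 (c0 / ε)) v, app_ne_zero ρ _ hv0, fun δ hδ u => ?_,
      Eig.move R ρ (terms_above R a1 (by omega) hγ hγ' (by omega) (Or.inr le_rfl)) hvf hvγ _,
      fun p hp' => ?_⟩
    · obtain ⟨d1, d2⟩ := (mem_above R).1 hδ
      rw [(terms_above R (m := C.γ + 1) a1 (by omega) (by omega) d2 (by omega)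
        (Or.inr (by omega))).move R ρ hvf, hvf δ hδ]
    · by_cases hpp : p = p0
      · subst hpp
        rw [if_pos List.mem_cons_self]
        intro u
        have hv1 : ρ (R.xe p.1 u) v = v := by
          have := hvp p hp' u
          rwa [if_neg hp0, AddChar.zero_apply, one_smul] at this
        have hmid : ρ (R.xe p.1 u) (ρ (R.xe C.γ (ε * (c0 / ε) * u)) v) = χ (c0 * u) • v := by
          rw [hvγ, map_smul, hv1, mul_div_cancel₀ _ hε]
        rw [← app, e, app, app, hmid, map_smul, ← hc0, AddChar.mulShift_apply]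
      · obtain ⟨d1, d2, a3, a4, -, -, ld, la', hsum'⟩ := hp p hp'
        have hne1 : p.1 ≠ p0.2 := fun e' => by
          have hd := (List.nodup_append.1 hnd).2.2
          exact hd p.1 (List.mem_map_of_mem hp') p0.2 (List.mem_map_of_mem hp0') e'
        have hnot : ¬ ∀ l < D.rank, X.coef l C.γ = X.coef l p0.2 + X.coef l p.1 := fun hh => by
          have heq : p.1 = p0.1 := coef_inj hI (by omega) (by omega) fun l hl => by
            have := hh l hl; rw [hsum l hl] at this; omega
          exact hpp (List.inj_on_of_nodup_map (List.nodup_append.1 hnd).1 hp' hp0' heq)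
        have ht := terms_one R hI hC a1 (by omega) d1 (by omega) hne1 la ld hnot
        have hmem : (if p ∈ p0 :: done then ψ p.1 else 0) = if p ∈ done then ψ p.1 else 0 := by
          simp [hpp]
        rw [hmem]
        exact Eig.move R ρ (ht.mono R fun _ h => absurd h List.not_mem_nil) hvf (hvp p hp') _

/-- the contribution of a cell -/
theorem cell_le (hI : CoefInj D X) {C : Cell} (hC : CellOK D X C) (h : HasVec R ρ C.i)
    {χ : AddChar F ℂ} (hχ : χ ≠ 0) {n : ℕ}
    (hn : LinearMap.trace ℂ V (proj ρ (rc R C.γ) χ (fixOn R ρ 1 (above D (C.γ + 1)))) = n) :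
    Fintype.card F ^ C.pairs.length ≤ n := by
  have hC' := hC
  obtain ⟨⟨hγ, hγ'⟩, -, -, -, hnd, hp, -, -⟩ := hC'
  have hg := goodL_above R ρ (m := C.γ + 1) (by omega) (V := V)
  have hcγ := commute_above R ρ (V := V) (m := C.γ + 1) (by omega) hγ hγ'
  have hnd1 := (List.nodup_append.1 hnd).1
  have := rank_ge R ρ (above D (C.γ + 1)) (C.pairs.map Prod.fst) hnd1 ?_
    (proj ρ (rc R C.γ) χ (fixOn R ρ 1 (above D (C.γ + 1)))) (proj_idem ρ _ χ (fixOn_idem R ρ hg) hcγ) ?_ ?_ ?_ n hn
  · rwa [List.length_map] at this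
  · intro c hc c' hc' hne
    obtain ⟨p, hpm, rfl⟩ := List.mem_map.1 hc
    obtain ⟨p', hpm', rfl⟩ := List.mem_map.1 hc'
    obtain ⟨c1, c2, -, -, -, -, lc, -, hsum⟩ := hp p hpm
    obtain ⟨d1, d2, a3, a4, -, -, ld, -, -⟩ := hp p' hpm'
    refine (terms_one R hI hC c1 (by omega) d1 (by omega) hne lc ld fun hh => ?_).mono R
      fun _ h => absurd h List.not_mem_nil
    obtain ⟨-, -, b1, b2, -⟩ := hp p hpm
    have heq : p'.1 = p.2 := coef_inj hI (by omega) (by omega) fun l hl => by
      have := hh l hl; rw [hsum l hl] at this; omega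
    exact (List.nodup_append.1 hnd).2.2 _ (List.mem_map_of_mem hpm') _ (List.mem_map_of_mem hpm) heq
  · intro c hc t
    obtain ⟨p, hpm, rfl⟩ := List.mem_map.1 hc
    obtain ⟨c1, c2, -⟩ := hp p hpm
    refine proj_commute ρ (rc R C.γ) χ (fixOn_idem R ρ hg) hcγ fun u => ?_
    obtain ⟨P, hP, e⟩ := (terms_above R (m := C.γ + 1) c1 (by omega) hγ hγ' (by omega) (Or.inr le_rfl)).swap R
      (fun k hk => xe_mem_Stab R ρ hg hk) t u
    refine (?_ : ρ (R.xe p.1 t) * (ρ (R.xe C.γ u) * _) = ρ (R.xe C.γ u) * _ * ρ (R.xe p.1 t))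
    have e' : ρ (R.xe C.γ u) * ρ (R.xe p.1 t) * fixOn R ρ 1 (above D (C.γ + 1)) =
        ρ (R.xe p.1 t) * ρ (R.xe C.γ u) * fixOn R ρ 1 (above D (C.γ + 1)) := by
      rw [← map_mul, e, map_mul, mul_assoc, hP.1, map_mul]
    rw [← mul_assoc, ← e', mul_assoc,
      (commute_above R ρ (V := V) (m := C.γ + 1) (by omega) c1 (by omega) t).eq, ← mul_assoc]
  · intro k hk t
    rw [← proj_left ρ _ χ (fixOn_idem R ρ hg) hcγ, ← mul_assoc, (fixOn_absorb R ρ hg k hk t).1]
  · intro ψ
    obtain ⟨v, hv0, hvf, hvγ, hvp⟩ := exists_cell_vec R ρ hI hC h hχ C.pairs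
      (List.Nodup.of_map _ hnd1) (fun _ h => h) ψ
    refine ⟨v, hv0, proj_apply_of_eigen ρ _ χ ((fixOn_apply_iff R ρ hg v).2 ⟨rfl, hvf⟩) hvγ, fun c hc => ?_⟩
    obtain ⟨p, hpm, rfl⟩ := List.mem_map.1 hc
    have := hvp p hpm
    rwa [if_pos hpm] at this

/-- the sum over the cells bounds the degree -/
theorem count_le (hI : CoefInj D X) (hv : ∀ i, i < D.rank → HasVec R ρ i) :
    ∀ (cells : List Cell) (m : ℕ), half D ≤ m → cells.map Cell.γ = List.range' m (D.nroots - m) →
      (∀ C ∈ cells, CellOK D X C) →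
      ∃ e : ℕ, LinearMap.trace ℂ V (fixOn R ρ 1 (above D m)) = e ∧
        e + (cells.map fun C => (Fintype.card F - 1) * Fintype.card F ^ C.pairs.length).sum ≤ finrank ℂ V
  | [], m, hm, hγ, _ => by
    have h0 : D.nroots - m = 0 := by simpa using congrArg List.length hγ.symm
    refine ⟨finrank ℂ V, ?_, by simp⟩
    rw [above, h0]
    exact LinearMap.trace_one ℂ V
  | C :: cells, m, hm, hγ, hall => by
    classical
    obtain ⟨k, hk⟩ : ∃ k, D.nroots - m = k + 1 := ⟨D.nroots - m - 1, by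
      have := congrArg List.length hγ
      simp at this
      omega⟩
    rw [hk, List.range'_succ, List.map_cons, List.cons.injEq] at hγ
    obtain ⟨hCγ, hγ'⟩ := hγ
    have hk' : D.nroots - (m + 1) = k := by omega
    obtain ⟨e', he', hle⟩ := count_le hI hv cells (m + 1) (by omega) (by rw [hk']; exact hγ')
      fun C hC => hall C (List.mem_cons_of_mem _ hC)
    have hC := hall C List.mem_cons_self
    have hml : m < D.nroots := by omega
    have habove : above D m = m :: above D (m + 1) := by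
      rw [above, above, hk, hk', List.range'_succ]
    have hg := goodL_above R ρ (V := V) (m := m + 1) (by omega)
    have hc := commute_above R ρ (V := V) (m := m + 1) (by omega) hm hml
    choose n hn using fun χ => (⟨_, trace_idem (proj_idem ρ (rc R m) χ (fixOn_idem R ρ hg) hc)⟩ :
      ∃ n : ℕ, LinearMap.trace ℂ V (proj ρ (rc R m) χ (fixOn R ρ 1 (above D (m + 1)))) = n)
    have hsum : n 0 + ∑ χ ∈ Finset.univ.erase (0 : AddChar F ℂ), n χ = e' := by
      apply Nat.cast_injective (R := ℂ)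
      rw [Finset.add_sum_erase _ _ (Finset.mem_univ _), Nat.cast_sum, ← he',
        ← sum_proj ρ (rc R m) (P := fixOn R ρ 1 (above D (m + 1))), map_sum]
      exact Finset.sum_congr rfl fun χ _ => (hn χ).symm
    refine ⟨n 0, by rw [habove]; exact hn 0, ?_⟩
    have hlow : (Fintype.card F - 1) * Fintype.card F ^ C.pairs.length ≤
        ∑ χ ∈ Finset.univ.erase (0 : AddChar F ℂ), n χ := by
      have := Finset.card_nsmul_le_sum (Finset.univ.erase (0 : AddChar F ℂ)) n (Fintype.card F ^ C.pairs.length)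
        fun χ hχ => cell_le R ρ hI hC (hv _ hC.2.1.1) (Finset.ne_of_mem_erase hχ)
          (by rw [hCγ]; exact hn χ)
      rwa [Finset.card_erase_of_mem (Finset.mem_univ _), Finset.card_univ, AddChar.card_eq, smul_eq_mul] at this
    rw [List.map_cons, List.sum_cons]
    omega

end CfsgLib.PLocal.Rad
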