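/-
The characters of the long root radical: either the degree is large or a character of a simple root occurs on a
vector fixed by all other positive roots.
-/
import Cfsg.Agent.Lib.PLocal.Rad.Count

set_option autoImplicit false
set_option linter.unusedSectionVars false

namespace CfsgLib.PLocal.Rad

open Module CfsgLib.Lie.Chev CfsgLib.PLocal.Triality
open Cfsg.Lie (ChevalleyDatum)

/-- a step of the derivation of the roots fixing the line -/
inductive Step
  /-- `k` is the commutator of two known roots -/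
  | comm (k a b : ℕ)
  /-- the root preserves the line -/
  | stab (r : ℕ)

/-- the combinatorial data at the top -/
structure TopData where
  /-- the highest root -/
  z : ℕ
  /-- the next root -/
  y : ℕ
  /-- their difference -/
  x : ℕ
  /-- pairs `(a, μ)` with `a + μ = y` -/
  pairs : List (ℕ × ℕ)
  /-- the torus index -/
  jt : ℕ
  /-- the reflection index -/
  jr : ℕ
  /-- the derivation -/
  script : List Step
  /-- the simple root reached -/
  i0 : ℕ
  /-- a neighbour of it -/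
  j0 : ℕ
  /-- the word sending `y` to the simple root -/
  w : List ℕ

namespace TopData

/-- the roots in the middle -/
def M (T : TopData) : List ℕ := T.pairs.map Prod.snd

end TopData

/-- running the derivation: the roots fixing and the roots stabilising the line -/
def run (D : ChevalleyDatum) (T : TopData) : List Step → List ℕ → List ℕ → Option (List ℕ × List ℕ)
  | [], fx, st => some (fx, st)
  | Step.comm k a b :: rest, fx, st =>
      if One D a b k ∧ (a ∈ fx ∨ a ∈ st) ∧ (b ∈ fx ∨ b ∈ st) then run D T rest (k :: fx) st else none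
  | Step.stab r :: rest, fx, st =>
      if Terms D r T.z fx ∧ Terms D r T.y fx ∧ ∀ μ ∈ T.M, Terms D r μ fx then run D T rest fx (r :: st) else none

/-- the roots found to fix the line -/
def derived (D : ChevalleyDatum) (T : TopData) : List ℕ :=
  ((run D T T.script (T.z :: T.M) []).map Prod.fst).getD []

/-- the checks at the top -/
def TopOK (D : ChevalleyDatum) (X : Aux) (T : TopData) : Prop :=
  (T.z < D.nroots ∧ T.y < D.nroots ∧ T.x < D.nroots) ∧
    (One D T.x T.y T.z ∧ Terms D T.x T.z [] ∧ Terms D T.y T.z []) ∧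
    (T.pairs.Nodup ∧ (T.pairs.map Prod.snd).Nodup ∧
      (∀ p ∈ T.pairs, One D p.1 p.2 T.y ∧ Terms D p.1 T.z [] ∧ Terms D p.1 T.y [] ∧ Terms D p.2 T.z [] ∧
        Terms D p.2 T.y [] ∧ ∀ p' ∈ T.pairs, p' = p ∨ (Terms D p.1 p'.2 [] ∧ Terms D p.2 p'.2 []))) ∧
    (T.jt < D.rank ∧ (D.cartan T.jt T.z = 1 ∨ D.cartan T.jt T.z = -1)) ∧
    (T.jr < D.rank ∧ X.w T.jr T.y = T.z) ∧
    (T.i0 < D.rank ∧ T.j0 < D.rank ∧ Closed D X [T.i0] [D.simple T.i0] ∧
      (D.cartan T.j0 (D.simple T.i0) = 1 ∨ D.cartan T.j0 (D.simple T.i0) = -1) ∧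
      (∀ j ∈ T.w, j < D.rank) ∧ appW X T.w T.y = D.simple T.i0) ∧
    ∀ δ ∈ posOut D [D.simple T.i0],
      appW X T.w.reverse δ ∈ derived D T ∧ appW X T.w.reverse δ < D.nroots ∧ appW X T.w (appW X T.w.reverse δ) = δ

instance (D : ChevalleyDatum) (X : Aux) (T : TopData) : Decidable (TopOK D X T) := by
  unfold TopOK; infer_instance

variable {D : ChevalleyDatum} {X : Aux} {F : Type*} [Field F] [Fintype F] {G : Type*} [Group G] (R : Rel D X F G)
variable {V : Type*} [AddCommGroup V] [Module ℂ V] [FiniteDimensional ℂ V] (ρ : Representation ℂ G V)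
include R

theorem commute_of_terms {r s : ℕ} (h : Terms D r s []) (t u : F) : Commute (R.xe r t) (R.xe s u) := by
  obtain ⟨P, hP, e⟩ := h.swap R (H := ⊥) (fun _ h => absurd h List.not_mem_nil) t u
  rw [Subgroup.mem_bot.1 hP, mul_one] at e
  exact e.symm

theorem commute_self (r : ℕ) (t u : F) : Commute (R.xe r t) (R.xe r u) := by
  show _ * _ = _ * _
  rw [R.xe_add', R.xe_add', add_comm]

theorem commute_fixOn_elem {E : Module.End ℂ V} : ∀ {l : List ℕ}, GoodL R ρ E l → ∀ {g : G},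
    Commute (ρ g) E → (∀ s ∈ l, ∀ u, Commute g (R.xe s u)) → Commute (ρ g) (fixOn R ρ E l)
  | [], _, _, hE, _ => hE
  | s :: _, h, g, hE, hs =>
    proj_commute ρ (rc R s) 0 (fixOn_idem R ρ h.1) h.2 fun u =>
      ((hs s List.mem_cons_self u).map ρ).mul_right
        (commute_fixOn_elem h.1 hE fun s' hs' => hs s' (List.mem_cons_of_mem _ hs'))

theorem good_elem {E : Module.End ℂ V} (hE : E * E = E) : ∀ {l : List ℕ},
    (∀ a ∈ l, ∀ t, Commute (ρ (R.xe a t)) E) → (∀ a ∈ l, ∀ b ∈ l, a = b ∨ Terms D a b []) → GoodL R ρ E l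
  | [], _, _ => hE
  | a :: l, h1, h2 => by
    have ih := good_elem hE (l := l) (fun b hb => h1 b (List.mem_cons_of_mem _ hb))
      fun b hb c hc => h2 b (List.mem_cons_of_mem _ hb) c (List.mem_cons_of_mem _ hc)
    refine ⟨ih, fun t => commute_fixOn_elem R ρ ih (h1 a List.mem_cons_self t) fun s hs u => ?_⟩
    rcases h2 a List.mem_cons_self s (List.mem_cons_of_mem _ hs) with rfl | h
    · exact commute_self R _ t u
    · exact commute_of_terms R h t u

/-- roots acting trivially or by scalars on `v` -/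
theorem scalar_of_mem {fx st : List ℕ} {v : V} (hf : Fixed R ρ fx v)
    (hs : ∀ r ∈ st, ∀ t, ∃ c : ℂ, ρ (R.xe r t) v = c • v) {r : ℕ} (hr : r ∈ fx ∨ r ∈ st) (t : F) :
    ∃ c : ℂ, ρ (R.xe r t) v = c • v := by
  rcases hr with hr | hr
  · exact ⟨1, by rw [one_smul]; exact hf r hr t⟩
  · exact hs r hr t

/-- soundness of the derivation -/
theorem run_sound (T : TopData) {χ : AddChar F ℂ} {v : V} (hv0 : v ≠ 0) (hy : Eig R ρ T.y χ v)
    (huniv : ∀ u, Fixed R ρ (T.z :: T.M) u → Eig R ρ T.y χ u → ∃ c : ℂ, u = c • v) :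
    ∀ (s : List Step) (fx st : List ℕ) (r : List ℕ × List ℕ), run D T s fx st = some r →
      (∀ k ∈ T.z :: T.M, k ∈ fx) → Fixed R ρ fx v → (∀ k ∈ st, ∀ t, ∃ c : ℂ, ρ (R.xe k t) v = c • v) →
      Fixed R ρ r.1 v
  | [], fx, st, r, h, _, hf, _ => by
    simp only [run, Option.some.injEq] at h
    rw [← h]
    exact hf
  | Step.comm k a b :: s, fx, st, r, h, hM, hf, hs => by
    simp only [run] at h
    split_ifs at h with hc
    obtain ⟨hone, ha, hb⟩ := hc
    refine run_sound T hv0 hy huniv s (k :: fx) st r h (fun j hj => List.mem_cons_of_mem _ (hM j hj)) ?_ hs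
    intro j hj t
    rcases List.mem_cons.1 hj with rfl | hj
    · obtain ⟨ε, hε, e⟩ := hone.swap R
      obtain ⟨c1, h1⟩ := scalar_of_mem R ρ hf hs ha (t / ε)
      obtain ⟨c2, h2⟩ := scalar_of_mem R ρ hf hs hb 1
      have e' := congrArg (fun g => ρ g v) (e (t / ε) 1)
      simp only [app, mul_one, mul_div_cancel₀ _ hε, h1, h2, map_smul, smul_smul] at e'
      refine app_inj ρ (R.xe b 1) (app_inj ρ (R.xe a (t / ε)) ?_)
      rw [← e', h2, map_smul, h1, smul_smul, mul_comm]
    · exact hf j hj t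
  | Step.stab k :: s, fx, st, r, h, hM, hf, hs => by
    simp only [run] at h
    split_ifs at h with hc
    obtain ⟨hz, hy', hμ⟩ := hc
    refine run_sound T hv0 hy huniv s fx (k :: st) r h hM hf fun j hj t => ?_
    rcases List.mem_cons.1 hj with rfl | hj
    · refine huniv _ (fun i hi u => ?_) (Eig.move R ρ hy' hf hy t)
      rcases List.mem_cons.1 hi with rfl | hi'
      · rw [hz.move R ρ hf, hf _ (hM _ hi)]
      · rw [(hμ i hi').move R ρ hf, hf _ (hM _ hi)]
    · exact hs j hj t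

/-- the top step -/
theorem top_alt {T : TopData} (hT : TopOK D X T) (hne : ∃ t, ρ (R.xe T.z t) ≠ 1) :
    2 * (Fintype.card F ^ (T.pairs.length + 2) - Fintype.card F ^ T.pairs.length) ≤ finrank ℂ V ∨
      (LinearMap.trace ℂ V (ρ (R.xe T.z 1)) =
          (finrank ℂ V : ℂ) - (Fintype.card F : ℂ) ^ (T.pairs.length + 2) ∧
        HasVec R ρ T.i0) := by
  classical
  obtain ⟨⟨lz, ly, lx⟩, ⟨hxyz, hxz, hyz⟩, ⟨hnd, hnd2, hpairs⟩, ⟨hjt, hct⟩, ⟨hjr, hwr⟩,
    ⟨hi0, hj0, hcl, hc0, hw, hwy⟩, htarget⟩ := hT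
  set q' : ℂ := (Fintype.card F : ℂ) with hq'
  have hq0 : q' ≠ 0 := card_ne_zero'
  have hs0 : ∑ a : F, (0 : AddChar F ℂ) a = q' := by simp [hq']
  set c := LinearMap.trace ℂ V (ρ (R.xe T.z 1)) with hc
  -- the trace of the long root elements
  have tz : ∀ t : F, t ≠ 0 → LinearMap.trace ℂ V (ρ (R.xe T.z t) * 1) = c := fun t ht => by
    obtain ⟨e, he, hh⟩ := exists_scale R hjt lz hct ht
    rw [trace_conj ρ hh (Commute.one_right _), mul_one]
  have ty : ∀ t : F, t ≠ 0 → LinearMap.trace ℂ V (ρ (R.xe T.y t) * 1) = c := fun t ht => by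
    have h2 := (R.isMon_ne_simple ⟨T.jr, hjr⟩ (one_ne_zero' F) ⟨T.y, ly⟩).2.2.2 t
    simp only [one_zpow, mul_one, R.wperm_apply, hwr] at h2
    rw [← trace_conj ρ h2 (Commute.one_right _),
      tz _ (mul_ne_zero (left_ne_zero_of_mul_eq_one (X.eta_sq_cast T.jr T.y)) ht)]
  set E0 := proj ρ (rc R T.z) 0 (1 : Module.End ℂ V) with hE0
  have hE0g : GoodL R ρ (1 : Module.End ℂ V) [T.z] := ⟨one_mul 1, fun _ => Commute.one_right _⟩
  have cE0 : ∀ r, Terms D r T.z [] → ∀ t, Commute (ρ (R.xe r t)) E0 := fun r hr t =>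
    commute_fixOn_elem R ρ hE0g (Commute.one_right _) fun s hs u => by
      rcases List.mem_singleton.1 hs with rfl
      exact commute_of_terms R hr t u
  have zE0 : ∀ u, ρ (R.xe T.z u) * E0 = E0 := fun u =>
    (fixOn_absorb R ρ hE0g T.z List.mem_cons_self u).1
  have hE0i : E0 * E0 = E0 := fixOn_idem R ρ hE0g
  obtain ⟨ε, hε, exy⟩ := hxyz.swap R
  have tye : ∀ a : F, a ≠ 0 → LinearMap.trace ℂ V (ρ (R.xe T.y a) * E0) = c := by
    intro a ha
    have h : ∀ i, LinearMap.trace ℂ V (ρ (R.xe T.y a) * ρ (R.xe T.z i)) = c := by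
      intro i
      have e : R.xe T.x (-(i / (ε * a))) * R.xe T.y a * (R.xe T.x (-(i / (ε * a))))⁻¹ =
          R.xe T.y a * R.xe T.z i := by
        have := exy (i / (ε * a)) a
        rw [show ε * (i / (ε * a)) * a = i by field_simp] at this
        rw [← R.xe_neg, neg_neg, mul_assoc, this, ← mul_assoc, ← mul_assoc, R.xe_add', neg_add_cancel, R.xe_zero,
          one_mul]
      rw [← map_mul, ← mul_one (ρ _), trace_conj ρ e (Commute.one_right _), ty a ha]
    rw [hE0, proj, mul_smul_comm, Finset.mul_sum, map_smul, map_sum]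
    simp only [mul_one, AddChar.zero_apply, one_smul, rc_apply, h, Finset.sum_const, Finset.card_univ]
    rw [nsmul_eq_mul, smul_eq_mul, inv_mul_cancel_left₀ card_ne_zero']
  have cy : ∀ t, Commute (ρ (R.xe T.y t)) E0 := cE0 _ hyz
  -- the multiplicity
  obtain ⟨χ, hχ⟩ : ∃ χ : AddChar F ℂ, χ ≠ 0 := by
    have : Nontrivial (AddChar F ℂ) :=
      Fintype.one_lt_card_iff_nontrivial.1 (by rw [AddChar.card_eq]; exact Fintype.one_lt_card)
    exact exists_ne 0
  set eY := proj ρ (rc R T.y) χ E0 with heY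
  have hYi : eY * eY = eY := proj_idem ρ _ χ hE0i cy
  have cYgen : ∀ r, Terms D r T.z [] → Terms D r T.y [] → ∀ t, Commute (ρ (R.xe r t)) eY := fun r h1 h2 t =>
    proj_commute ρ _ χ hE0i cy fun u => ((commute_of_terms R h2 t u).map ρ).mul_right (cE0 r h1 t)
  have cY : ∀ p ∈ T.pairs, (∀ t, Commute (ρ (R.xe p.1 t)) eY) ∧ ∀ t, Commute (ρ (R.xe p.2 t)) eY := fun p hp => by
    obtain ⟨-, z1, y1, z2, y2, -⟩ := hpairs p hp
    exact ⟨cYgen _ z1 y1, cYgen _ z2 y2⟩
  have eigY : ∀ t, ρ (R.xe T.y t) * eY = χ t • eY := fun t => map_mul_proj ρ (rc R T.y) χ E0 t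
  have good : ∀ ps : List (ℕ × ℕ), (∀ p ∈ ps, p ∈ T.pairs) → GoodL R ρ eY (ps.map Prod.snd) := by
    intro ps hps
    refine good_elem R ρ hYi (fun a ha => ?_) fun a ha b hb => ?_
    · obtain ⟨p, hp, rfl⟩ := List.mem_map.1 ha; exact (cY p (hps p hp)).2
    · obtain ⟨p, hp, rfl⟩ := List.mem_map.1 ha
      obtain ⟨p', hp', rfl⟩ := List.mem_map.1 hb
      rcases (hpairs p (hps p hp)).2.2.2.2.2 p' (hps p' hp') with rfl | h
      · exact Or.inl rfl
      · exact Or.inr h.2
  have peel : ∀ ps : List (ℕ × ℕ), ps.Nodup → (∀ p ∈ ps, p ∈ T.pairs) →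
      q' ^ ps.length * LinearMap.trace ℂ V (fixOn R ρ eY (ps.map Prod.snd)) = LinearMap.trace ℂ V eY := by
    intro ps
    induction ps with
    | nil => intro _ _; simp [fixOn]
    | cons p ps ih =>
      intro hn hps
      have hp := hps p List.mem_cons_self
      have hps' : ∀ x ∈ ps, x ∈ T.pairs := fun x hx => hps x (List.mem_cons_of_mem _ hx)
      have hg := good ps hps'
      set Q := fixOn R ρ eY (ps.map Prod.snd) with hQ
      have hQa : ∀ t, Commute (ρ (R.xe p.1 t)) Q := fun t =>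
        commute_fixOn_elem R ρ hg ((cY p hp).1 t) fun s hs u => by
          obtain ⟨p', hp', rfl⟩ := List.mem_map.1 hs
          rcases (hpairs p hp).2.2.2.2.2 p' (hps' p' hp') with rfl | h
          · exact absurd hp' (List.nodup_cons.1 hn).1
          · exact commute_of_terms R h.1 t u
      obtain ⟨δ, hδ, ea⟩ := (hpairs p hp).1.swap R
      have hzero : ∀ s : F, s ≠ 0 → LinearMap.trace ℂ V (ρ (rc R p.2 s) * Q) = 0 := by
        intro s hs
        obtain ⟨a, ha⟩ : ∃ a, χ a ≠ 1 := by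
          by_contra h
          push Not at h
          exact hχ (DFunLike.ext _ _ fun a => by rw [h, AddChar.zero_apply])
        have e : R.xe p.1 (-(a / (δ * s))) * R.xe p.2 s * (R.xe p.1 (-(a / (δ * s))))⁻¹ =
            R.xe p.2 s * R.xe T.y a := by
          have := ea (a / (δ * s)) s
          rw [show δ * (a / (δ * s)) * s = a by field_simp] at this
          rw [← R.xe_neg, neg_neg, mul_assoc, this, ← mul_assoc, ← mul_assoc, R.xe_add', neg_add_cancel,
            R.xe_zero, one_mul]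
        have h := trace_conj ρ e (hQa (-(a / (δ * s))))
        have hyQ : ρ (R.xe T.y a) * Q = χ a • Q := by
          rw [hQ, ← fixOn_left R ρ hg, ← mul_assoc, eigY, smul_mul_assoc]
        rw [map_mul ρ (R.xe p.2 s), mul_assoc, hyQ, mul_smul_comm, map_smul, smul_eq_mul] at h
        rw [rc_apply]
        by_contra h0
        exact ha ((mul_eq_right₀ (a := χ a) h0).1 h)
      have := trace_proj ρ (rc R p.2) 0 (P := Q) rfl hzero
      rw [hs0, sub_zero, zero_mul, add_zero] at this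
      rw [List.map_cons, List.length_cons, pow_succ, mul_assoc,
        show fixOn R ρ eY (p.2 :: ps.map Prod.snd) = proj ρ (rc R p.2) 0 Q from rfl, ← hq'] at *
      rw [this]
      exact ih (List.nodup_cons.1 hn).2 hps'
  have hgM := good T.pairs fun _ h => h
  obtain ⟨m, hm⟩ : ∃ m : ℕ, LinearMap.trace ℂ V (fixOn R ρ eY T.M) = m := ⟨_, trace_idem (fixOn_idem R ρ hgM)⟩
  obtain ⟨e, he⟩ : ∃ e : ℕ, LinearMap.trace ℂ V (proj ρ (rc R T.y) 0 E0) = e :=
    ⟨_, trace_idem (proj_idem ρ _ 0 hE0i cy)⟩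
  have a0 := trace_proj ρ (rc R T.z) 0 (P := (1 : Module.End ℂ V)) (LinearMap.trace_one ℂ V) tz
  have a1 := trace_proj ρ (rc R T.y) χ (P := E0) rfl tye
  have a2 := trace_proj ρ (rc R T.y) 0 (P := E0) rfl tye
  rw [hs0, ← hq', ← hE0] at a0
  rw [AddChar.sum_eq_zero_iff_ne_zero.2 hχ, mul_zero, add_zero, ← hq', ← heY,
    ← peel T.pairs hnd fun _ h => h, show T.pairs.map Prod.snd = T.M from rfl, hm] at a1
  rw [hs0, he, ← hq'] at a2
  have hdim : (finrank ℂ V : ℂ) = e + (q' ^ (T.pairs.length + 2) - q' ^ T.pairs.length) * m := by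
    apply mul_left_cancel₀ hq0
    linear_combination -q' * a0 - a2 - (q' ^ 2 - 1) * a1
  have hdimN : finrank ℂ V + Fintype.card F ^ T.pairs.length * m = e + Fintype.card F ^ (T.pairs.length + 2) * m := by
    apply Nat.cast_injective (R := ℂ)
    push_cast
    rw [hdim, hq']
    ring
  have hm0 : m ≠ 0 := by
    rintro rfl
    rw [Nat.cast_zero, mul_zero, mul_zero] at a1
    have he0 : LinearMap.trace ℂ V E0 = finrank ℂ V := by linear_combination a0 + (q' - 1) * a1
    obtain ⟨i, hi⟩ := hne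
    have := zE0 i
    rw [eq_one_of_trace_eq hE0i he0, mul_one] at this
    exact hi this
  by_cases hm2 : 2 ≤ m
  · left
    have hpow : Fintype.card F ^ T.pairs.length ≤ Fintype.card F ^ (T.pairs.length + 2) :=
      Nat.pow_le_pow_right Fintype.card_pos (by omega)
    obtain ⟨g, hg⟩ := Nat.exists_eq_add_of_le hpow
    rw [hg, Nat.add_sub_cancel_left]
    have := Nat.mul_le_mul_left g hm2
    rw [hg, add_mul] at hdimN
    omega
  have hm1 : m = 1 := by omega
  subst hm1
  right
  refine ⟨?_, ?_⟩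
  · rw [Nat.cast_one, mul_one] at a1
    rw [pow_add]
    linear_combination a0 + q' * a1
  -- the line
  have hr1 : finrank ℂ (LinearMap.range (fixOn R ρ eY T.M)) = 1 := by
    have := (trace_idem (fixOn_idem R ρ hgM)).symm.trans hm
    exact_mod_cast this
  obtain ⟨⟨v, hvm⟩, hv0, hv1⟩ := finrank_eq_one_iff'.1 hr1
  have hv : fixOn R ρ eY T.M v = v := by
    obtain ⟨u, rfl⟩ := hvm
    exact LinearMap.congr_fun (fixOn_idem R ρ hgM) u
  have hv0' : v ≠ 0 := fun h => hv0 (Subtype.ext h)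
  obtain ⟨hvY, hvM⟩ := (fixOn_apply_iff R ρ hgM v).1 hv
  have hvz : ∀ u, ρ (R.xe T.z u) v = v := fun u => by
    conv_lhs => rw [← hvY, heY, ← proj_left ρ (rc R T.y) χ hE0i cy]
    rw [← Module.End.mul_apply, ← mul_assoc, zE0, proj_left ρ (rc R T.y) χ hE0i cy, ← heY, hvY]
  have hvy : Eig R ρ T.y χ v := fun t => eigen_of_proj_apply ρ (rc R T.y) χ hvY t
  have huniv : ∀ u, Fixed R ρ (T.z :: T.M) u → Eig R ρ T.y χ u → ∃ c : ℂ, u = c • v := fun u hu hy => by
    have hE : E0 u = u := (fixOn_apply_iff R ρ hE0g u).2 ⟨rfl, hu.mono R ρ fun s hs =>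
      (List.mem_singleton.1 hs) ▸ List.mem_cons_self⟩
    have hu' : fixOn R ρ eY T.M u = u := (fixOn_apply_iff R ρ hgM u).2
      ⟨proj_apply_of_eigen ρ (rc R T.y) χ hE hy, hu.mono R ρ fun s hs => List.mem_cons_of_mem _ hs⟩
    obtain ⟨c, hc⟩ := hv1 ⟨u, u, hu'⟩
    exact ⟨c, (congrArg Subtype.val hc).symm⟩
  have hfix0 : Fixed R ρ (T.z :: T.M) v := fun s hs => by
    rcases List.mem_cons.1 hs with rfl | hs
    · exact hvz
    · exact hvM s hs
  have hfix : Fixed R ρ (derived D T) v := by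
    unfold derived
    cases hr : run D T T.script (T.z :: T.M) [] with
    | none => exact fun _ h => absurd h List.not_mem_nil
    | some r => exact (run_sound R ρ T hv0' hvy huniv _ _ _ r hr (fun _ h => h) hfix0
        (fun _ h => absurd h List.not_mem_nil))
  obtain ⟨n, hn⟩ := exists_lift R T.w hw
  obtain ⟨-, δ0, hδ0, hny⟩ := hn T.y ly
  rw [hwy] at hny
  have hχ' : χ.mulShift δ0⁻¹ ≠ 0 := fun e => hχ (DFunLike.ext _ _ fun a => by
    have := DFunLike.congr_fun e (δ0 * a)
    rwa [AddChar.mulShift_apply, inv_mul_cancel_left₀ hδ0] at this)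
  refine hasVec_of_one hi0 hj0 hcl hc0 hχ' (app_ne_zero ρ n hv0') (fun δ hδ t => ?_) fun t => ?_
  · obtain ⟨b1, b2, b3⟩ := htarget δ hδ
    obtain ⟨-, e0, he0', hee⟩ := hn _ b2
    rw [b3] at hee
    have := hee (e0⁻¹ * t)
    rw [mul_inv_cancel_left₀ he0'] at this
    rw [← app, ← this, inv_mul_cancel_right, app, hfix _ b1]
  · have := hny (δ0⁻¹ * t)
    rw [mul_inv_cancel_left₀ hδ0] at this
    rw [← app, ← this, inv_mul_cancel_right, app, hvy, AddChar.mulShift_apply, map_smul]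

/-- connected edges from the first simple root -/
def Reach : List ℕ → List (ℕ × ℕ × ℕ) → List ℕ
  | known, [] => known
  | known, (i, j, _) :: es => if i ∈ known then Reach (j :: known) es else known

theorem hasVec_reach : ∀ (es : List (ℕ × ℕ × ℕ)) (known : List ℕ), (∀ e ∈ es, Edge D X e.1 e.2.1 e.2.2) →
    (∀ i ∈ known, HasVec R ρ i) → ∀ i ∈ Reach known es, HasVec R ρ i
  | [], _, _, hk, i, hi => hk i hi
  | (a, b, k) :: es, known, he, hk, i, hi => by
    simp only [Reach] at hi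
    split_ifs at hi with ha
    · refine hasVec_reach es (b :: known) (fun e h => he e (List.mem_cons_of_mem _ h)) (fun j hj => ?_) i hi
      rcases List.mem_cons.1 hj with rfl | hj
      · exact HasVec.transfer R ρ (he _ List.mem_cons_self) (hk a ha)
      · exact hk j hj
    · exact hk i hi

/-- the degree bound -/
theorem degree_bound {T : TopData} (hT : TopOK D X T) {es : List (ℕ × ℕ × ℕ)}
    (hes : ∀ e ∈ es, Edge D X e.1 e.2.1 e.2.2) (hall : ∀ i < D.rank, i ∈ Reach [T.i0] es)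
    (hI : CoefInj D X) {cells : List Cell} (hcells : ∀ C ∈ cells, CellOK D X C)
    (hγ : cells.map Cell.γ = List.range' (half D) (D.nroots - half D))
    (hne : ∃ t, ρ (R.xe T.z t) ≠ 1) :
    2 * (Fintype.card F ^ (T.pairs.length + 2) - Fintype.card F ^ T.pairs.length) ≤ finrank ℂ V ∨
      ((cells.map fun C => (Fintype.card F - 1) * Fintype.card F ^ C.pairs.length).sum ≤ finrank ℂ V ∧
        LinearMap.trace ℂ V (ρ (R.xe T.z 1)) =
          (finrank ℂ V : ℂ) - (Fintype.card F : ℂ) ^ (T.pairs.length + 2)) := by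
  refine (top_alt R ρ hT hne).imp id fun ⟨htr, h⟩ => ⟨?_, htr⟩
  obtain ⟨e, -, he⟩ := count_le R ρ hI (fun i hi => hasVec_reach R ρ es [T.i0] hes
    (fun j hj => List.mem_singleton.1 hj ▸ h) i (hall i hi)) cells (half D) le_rfl hγ hcells
  omega

end CfsgLib.PLocal.Rad
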