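/-
Certificates for the degree bound of type E6: the derivation at the top, the edges of the diagram and the cells.
-/
import Cfsg.Agent.Lib.PLocal.Rad.Top
import Cfsg.Agent.Lib.Lie.Chev.Data.CertE6

set_option autoImplicit false
set_option maxHeartbeats 0
set_option maxRecDepth 20000

namespace CfsgLib.PLocal.Rad.E6

open CfsgLib.Lie.Chev Cfsg.Lie

/-- the data at the top -/
def top : TopData where
  z := 71
  y := 70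
  x := 46
  pairs := [(39, 69), (40, 68), (41, 67), (43, 66), (44, 65), (45, 64), (58, 55), (59, 54), (60, 53)]
  jt := 1
  jr := 1
  script := [.stab 14, .stab 15, .stab 29, .stab 33, .stab 34, .stab 35, .stab 36, .stab 37, .stab 38, .stab 42, .stab 47, .stab 56, .stab 57, .stab 61, .stab 62, .stab 63, .comm 62 63 35, .comm 61 63 33, .comm 52 63 15, .comm 49 63 14, .comm 63 62 36, .comm 51 62 15, .comm 48 62 14, .comm 50 61 15, .comm 47 61 14, .comm 56 57 29, .comm 42 57 15, .comm 57 56 42, .comm 37 38 35, .comm 36 38 34, .comm 38 37 36, .stab 11, .stab 26, .stab 30, .stab 32, .comm 32 38 30, .comm 28 38 26, .comm 13 38 11, .comm 31 36 30, .comm 27 36 26, .comm 12 36 11, .comm 30 57 11, .comm 26 56 11, .comm 46 47 32, .comm 11 30 14]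
  i0 := 1
  j0 := 3
  w := [3, 4, 5, 2, 3, 4, 0, 2, 3]

/-- the edges of the diagram -/
def edges : List (ℕ × ℕ × ℕ) := [(1, (3, 47)), (3, (2, 43)), (3, (4, 40)), (2, (0, 57)), (4, (5, 38))]

/-- the cells -/
def cells : List Cell := [
  ⟨36, 5, [], [], [0, 0, 0, 0, -1, 2]⟩,
  ⟨37, 4, [], [], [0, 0, 0, -1, 2, -1]⟩,
  ⟨38, 5, [4], [(36, 37)], [0, 0, 0, -1, 1, 1]⟩,
  ⟨39, 3, [], [], [0, -1, -1, 2, -1, 0]⟩,
  ⟨40, 4, [3], [(37, 39)], [0, -1, -1, 1, 1, -1]⟩,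
  ⟨41, 5, [3, 4], [(36, 40), (38, 39)], [0, -1, -1, 1, 0, 1]⟩,
  ⟨42, 2, [], [], [-1, 0, 2, -1, 0, 0]⟩,
  ⟨43, 3, [2], [(39, 42)], [-1, -1, 1, 1, -1, 0]⟩,
  ⟨44, 4, [2, 3], [(37, 43), (40, 42)], [-1, -1, 1, 0, 1, -1]⟩,
  ⟨45, 5, [2, 3, 4], [(36, 44), (38, 43), (41, 42)], [-1, -1, 1, 0, 0, 1]⟩,
  ⟨46, 1, [], [], [0, 2, 0, -1, 0, 0]⟩,
  ⟨47, 3, [1], [(39, 46)], [0, 1, -1, 1, -1, 0]⟩,
  ⟨48, 4, [1, 3], [(37, 47), (40, 46)], [0, 1, -1, 0, 1, -1]⟩,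
  ⟨49, 5, [1, 3, 4], [(36, 48), (38, 47), (41, 46)], [0, 1, -1, 0, 0, 1]⟩,
  ⟨50, 3, [1, 2], [(43, 46), (47, 42)], [-1, 1, 1, 0, -1, 0]⟩,
  ⟨51, 4, [1, 2, 3], [(37, 50), (44, 46), (48, 42)], [-1, 1, 1, -1, 1, -1]⟩,
  ⟨52, 5, [1, 2, 3, 4], [(36, 51), (38, 50), (45, 46), (49, 42)], [-1, 1, 1, -1, 0, 1]⟩,
  ⟨53, 4, [3, 1, 2, 3], [(40, 50), (44, 47), (48, 43), (51, 39)], [-1, 0, 0, 1, 0, -1]⟩,
  ⟨54, 5, [3, 1, 2, 3, 4], [(36, 53), (41, 50), (45, 47), (49, 43), (52, 39)], [-1, 0, 0, 1, -1, 1]⟩,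
  ⟨55, 5, [4, 3, 1, 2, 3, 4], [(38, 53), (41, 51), (45, 48), (49, 44), (52, 40), (54, 37)], [-1, 0, 0, 0, 1, 0]⟩,
  ⟨56, 0, [], [], [2, 0, -1, 0, 0, 0]⟩,
  ⟨57, 2, [0], [(42, 56)], [1, 0, 1, -1, 0, 0]⟩,
  ⟨58, 3, [0, 2], [(39, 57), (43, 56)], [1, -1, 0, 1, -1, 0]⟩,
  ⟨59, 4, [0, 2, 3], [(37, 58), (40, 57), (44, 56)], [1, -1, 0, 0, 1, -1]⟩,
  ⟨60, 5, [0, 2, 3, 4], [(36, 59), (38, 58), (41, 57), (45, 56)], [1, -1, 0, 0, 0, 1]⟩,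
  ⟨61, 3, [0, 1, 2], [(47, 57), (50, 56), (58, 46)], [1, 1, 0, 0, -1, 0]⟩,
  ⟨62, 4, [0, 1, 2, 3], [(37, 61), (48, 57), (51, 56), (59, 46)], [1, 1, 0, -1, 1, -1]⟩,
  ⟨63, 5, [0, 1, 2, 3, 4], [(36, 62), (38, 61), (49, 57), (52, 56), (60, 46)], [1, 1, 0, -1, 0, 1]⟩,
  ⟨64, 4, [0, 3, 1, 2, 3], [(40, 61), (48, 58), (53, 56), (59, 47), (62, 39)], [1, 0, -1, 1, 0, -1]⟩,
  ⟨65, 5, [0, 3, 1, 2, 3, 4], [(36, 64), (41, 61), (49, 58), (54, 56), (60, 47), (63, 39)], [1, 0, -1, 1, -1, 1]⟩,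
  ⟨66, 5, [0, 4, 3, 1, 2, 3, 4], [(38, 64), (41, 62), (49, 59), (55, 56), (60, 48), (63, 40), (65, 37)], [1, 0, -1, 0, 1, 0]⟩,
  ⟨67, 4, [2, 0, 3, 1, 2, 3], [(44, 61), (51, 58), (53, 57), (59, 50), (62, 43), (64, 42)], [0, 0, 1, 0, 0, -1]⟩,
  ⟨68, 5, [2, 0, 3, 1, 2, 3, 4], [(36, 67), (45, 61), (52, 58), (54, 57), (60, 50), (63, 43), (65, 42)], [0, 0, 1, 0, -1, 1]⟩,
  ⟨69, 5, [2, 0, 4, 3, 1, 2, 3, 4], [(38, 67), (45, 62), (52, 59), (55, 57), (60, 51), (63, 44), (66, 42), (68, 37)], [0, 0, 1, -1, 1, 0]⟩,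
  ⟨70, 5, [3, 2, 0, 4, 3, 1, 2, 3, 4], [(41, 67), (45, 64), (54, 59), (55, 58), (60, 53), (65, 44), (66, 43), (68, 40), (69, 39)], [0, -1, 0, 1, 0, 0]⟩,
  ⟨71, 5, [1, 3, 2, 0, 4, 3, 1, 2, 3, 4], [(49, 67), (52, 64), (54, 62), (55, 61), (63, 53), (65, 51), (66, 50), (68, 48), (69, 47), (70, 46)], [0, 1, 0, 0, 0, 0]⟩]

theorem topOK : TopOK chevE6 auxE6 top := by decide +kernel

theorem edgesOK : ∀ e ∈ edges, Edge chevE6 auxE6 e.1 e.2.1 e.2.2 := by decide +kernel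

theorem reachOK : ∀ i < chevE6.rank, i ∈ Reach [top.i0] edges := by decide +kernel

theorem coefOK : CoefInj chevE6 auxE6 := by decide +kernel

theorem cellsOK : ∀ C ∈ cells, CellOK chevE6 auxE6 C := by decide +kernel

theorem cellsγ : cells.map Cell.γ = List.range' (half chevE6) (chevE6.nroots - half chevE6) := by
  decide +kernel

end CfsgLib.PLocal.Rad.E6
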