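/-
Numbers slightly below a sum of powers of `q` that divide a group order: a computable exclusion.
-/
import Cfsg.Agent.Lib.Lie.Rel.PolyCheck

set_option autoImplicit false

namespace CfsgLib.PLocal.Rad

open CfsgLib.Lie.Chev (horner padd pmul cyclo pprod horner_padd horner_map horner_pmul horner_pprod horner_zero
  horner_cyclo)

/-- coefficients of `q ^ n` -/
def mono (n : ℕ) : List ℤ := List.replicate n 0 ++ [1]

theorem horner_snoc (x : ℤ) : ∀ (l : List ℤ) (c : ℤ), horner x (l ++ [c]) = horner x l + x ^ l.length * c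
  | [], c => by simp [horner]
  | a :: l, c => by
    simp only [List.cons_append, horner, horner_snoc x l c, List.length_cons]
    ring

theorem horner_mono (x : ℤ) (n : ℕ) : horner x (mono n) = x ^ n := by
  rw [mono, horner_snoc, horner_zero x _ (fun c hc => List.eq_of_mem_replicate hc), List.length_replicate]
  ring

/-- sum of coefficient lists -/
def asum : List (List ℤ) → List ℤ
  | [] => []
  | a :: as => padd a (asum as)

theorem horner_asum (x : ℤ) : ∀ L, horner x (asum L) = (L.map (horner x)).sum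
  | [] => rfl
  | a :: as => by rw [asum, horner_padd, horner_asum x as, List.map_cons, List.sum_cons]

/-- the sum of the powers with the given exponents -/
def bVal (exps : List ℕ) (q : ℕ) : ℕ := (exps.map fun m => q ^ m).sum

/-- its coefficients -/
def bPoly (exps : List ℕ) : List ℤ := asum (exps.map mono)

theorem horner_bPoly (exps : List ℕ) (q : ℕ) : horner (q : ℤ) (bPoly exps) = (bVal exps q : ℤ) := by
  rw [bPoly, horner_asum, bVal, Nat.cast_list_sum, List.map_map, List.map_map]
  exact congrArg _ (List.map_congr_left fun m _ => by simp [horner_mono])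

/-- the product of the factors `q ^ k - 1` -/
def gVal (degs : List ℕ) (q : ℕ) : ℕ := (degs.map fun k => q ^ k - 1).prod

theorem horner_gPoly (degs : List ℕ) {q : ℕ} (hq : 1 ≤ q) :
    horner (q : ℤ) (pprod (degs.map cyclo)) = (gVal degs q : ℤ) := by
  rw [horner_pprod, gVal, Nat.cast_list_prod, List.map_map, List.map_map]
  refine congrArg _ (List.map_congr_left fun k _ => ?_)
  simp [horner_cyclo, Nat.cast_sub (Nat.one_le_pow k q hq)]

/-- division by a monic polynomial of degree `n` -/
def divMod (P : List ℤ) (n : ℕ) : List ℤ → List ℤ × List ℤ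
  | [] => ([], [])
  | c :: cs =>
    let AR := divMod P n cs
    let R1 := c :: AR.2
    let t := R1.getD n 0
    (t :: AR.1, (padd R1 (P.map (-t * ·))).take n)

/-- removing zeros at the top -/
def trimZ (l : List ℤ) : List ℤ := (l.reverse.dropWhile fun c => c == 0).reverse

/-- the sum of the absolute values of the terms -/
def absSum (N : ℕ) : List ℤ → ℕ
  | [] => 0
  | c :: cs => c.natAbs + N * absSum N cs

theorem natAbs_horner_le (x : ℕ) : ∀ cs, (horner (x : ℤ) cs).natAbs ≤ absSum x cs
  | [] => le_rfl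
  | c :: cs => by
    refine (Int.natAbs_add_le _ _).trans (Nat.add_le_add_left ?_ _)
    rw [Int.natAbs_mul, Int.natAbs_natCast]
    exact Nat.mul_le_mul_left _ (natAbs_horner_le x cs)

theorem absSum_scale {N x : ℕ} (h : N ≤ x) : ∀ (cs : List ℤ) (k : ℕ), cs.length ≤ k →
    absSum x cs * N ^ k ≤ absSum N cs * x ^ k
  | [], k, _ => by simp [absSum]
  | c :: cs, 0, hk => by simp at hk
  | c :: cs, k + 1, hk => by
    have ih := absSum_scale h cs k (by simpa using hk)
    calc absSum x (c :: cs) * N ^ (k + 1) = c.natAbs * N ^ (k + 1) + x * N * (absSum x cs * N ^ k) := by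
          rw [absSum]; ring
      _ ≤ c.natAbs * x ^ (k + 1) + x * N * (absSum N cs * x ^ k) :=
          Nat.add_le_add (Nat.mul_le_mul_left _ (Nat.pow_le_pow_left h _)) (Nat.mul_le_mul_left _ ih)
      _ = absSum N (c :: cs) * x ^ (k + 1) := by rw [absSum]; ring

theorem horner_lt {N x t k : ℕ} {cs : List ℤ} (h : N ≤ x) (hk : cs.length ≤ k)
    (hdom : absSum N cs < t * N ^ k) : (horner (x : ℤ) cs).natAbs < t * x ^ k := by
  rcases Nat.eq_zero_or_pos x with rfl | hx
  · obtain rfl : N = 0 := by omega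
    exact lt_of_le_of_lt (natAbs_horner_le 0 cs) hdom
  refine Nat.lt_of_mul_lt_mul_right (a := N ^ k) ?_
  calc (horner (x : ℤ) cs).natAbs * N ^ k ≤ absSum x cs * N ^ k :=
        Nat.mul_le_mul_right _ (natAbs_horner_le x cs)
    _ ≤ absSum N cs * x ^ k := absSum_scale h cs k hk
    _ < t * N ^ k * x ^ k := Nat.mul_lt_mul_of_pos_right hdom (Nat.pow_pos hx)
    _ = t * x ^ k * N ^ k := by ring

/-- the remainder of `j * ∏ (q ^ k - 1)` by `∑ q ^ m - j` is small and nonzero from `N0` on -/
def polyOK (exps degs : List ℕ) (n j N0 : ℕ) : Bool :=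
  let P := padd (bPoly exps) [-(j : ℤ)]
  let num := (pprod (degs.map cyclo)).map ((j : ℤ) * ·)
  let AR := divMod P n num
  let R := trimZ AR.2
  (padd num ((padd (pmul AR.1 P) R).map (-1 * ·))).all (fun c => c == 0) &&
    !R.isEmpty && decide (R.length ≤ n) && decide (j < N0) && decide (n ∈ exps) && decide (1 ∈ exps.erase n) &&
    decide (absSum N0 R < 1 * N0 ^ n) &&
    decide (absSum N0 R.dropLast < (R.getLastD 0).natAbs * N0 ^ (R.length - 1))

theorem le_bVal {exps : List ℕ} {n q : ℕ} (hn : n ∈ exps) (h1 : 1 ∈ exps.erase n) : q ^ n + q ≤ bVal exps q := by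
  rw [bVal, ((List.perm_cons_erase hn).map _).sum_eq, List.map_cons, List.sum_cons]
  refine Nat.add_le_add_left ?_ _
  exact List.le_sum_of_mem (List.mem_map.2 ⟨1, h1, pow_one q⟩)

theorem not_dvd_of_polyOK {exps degs : List ℕ} {n j N0 q d : ℕ} (h : polyOK exps degs n j N0 = true)
    (hq : N0 ≤ q) (hd : d + j = bVal exps q) : ¬ d ∣ j * gVal degs q := by
  simp only [polyOK, Bool.and_eq_true, decide_eq_true_eq, Bool.not_eq_true', List.all_eq_true, beq_iff_eq] at h
  obtain ⟨⟨⟨⟨⟨⟨⟨hid, hne⟩, hlen⟩, hj⟩, hn⟩, h1⟩, hsmall⟩, htop⟩ := h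
  set R := trimZ (divMod (padd (bPoly exps) [-(j : ℤ)]) n
    ((pprod (degs.map cyclo)).map ((j : ℤ) * ·))).2 with hR
  set A := (divMod (padd (bPoly exps) [-(j : ℤ)]) n ((pprod (degs.map cyclo)).map ((j : ℤ) * ·))).1
  have hP : horner (q : ℤ) (padd (bPoly exps) [-(j : ℤ)]) = d := by
    rw [horner_padd, horner_bPoly, ← hd]
    simp [horner]
  have e := horner_zero (q : ℤ) _ hid
  simp only [horner_padd, horner_map, horner_pmul, horner_gPoly degs (show 1 ≤ q by omega)] at e
  rw [← horner_padd, hP] at e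
  intro hdvd
  have hdR : (d : ℤ) ∣ horner (q : ℤ) R := by
    have h' : (d : ℤ) ∣ (j : ℤ) * (gVal degs q : ℤ) := by exact_mod_cast Int.natCast_dvd_natCast.2 hdvd
    rw [show horner (q : ℤ) R = (j : ℤ) * (gVal degs q : ℤ) - horner (q : ℤ) A * (d : ℤ) by linear_combination -e]
    exact dvd_sub h' (dvd_mul_left _ _)
  have hlt := horner_lt (x := q) hq hlen hsmall
  have hqd : q ^ n ≤ d := by
    have := le_bVal (q := q) hn h1
    omega
  have h0 : horner (q : ℤ) R = 0 := Int.eq_zero_of_dvd_of_natAbs_lt_natAbs hdR (by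
    rw [Int.natAbs_natCast]; omega)
  have hnil : R ≠ [] := by simpa [List.isEmpty_iff] using hne
  have hlast : R.getLastD 0 = R.getLast hnil := by
    rw [List.getLastD_eq_getLast?, List.getLast?_eq_getLast hnil]; rfl
  have hsplit := horner_snoc (q : ℤ) R.dropLast (R.getLast hnil)
  rw [List.dropLast_append_getLast hnil, h0, List.length_dropLast] at hsplit
  have hlt2 := horner_lt (x := q) hq (le_of_eq List.length_dropLast) htop
  rw [show horner (q : ℤ) R.dropLast = -((q : ℤ) ^ (R.length - 1) * R.getLast hnil) by linarith,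
    Int.natAbs_neg, Int.natAbs_mul, Int.natAbs_pow, Int.natAbs_natCast, hlast, mul_comm] at hlt2
  exact lt_irrefl _ hlt2

/-- a Boolean function on `[lo, lo + 2 ^ k)` -/
def allB (f : ℕ → Bool) : ℕ → ℕ → Bool
  | 0, lo => f lo
  | k + 1, lo => allB f k lo && allB f k (lo + 2 ^ k)

theorem allB_spec {f : ℕ → Bool} : ∀ {k lo : ℕ}, allB f k lo = true → ∀ q, lo ≤ q → q < lo + 2 ^ k → f q = true
  | 0, lo, h, q, h1, h2 => by
    obtain rfl : q = lo := by simp at h2; omega
    exact h
  | k + 1, lo, h, q, h1, h2 => by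
    rw [allB, Bool.and_eq_true] at h
    rw [pow_succ] at h2
    by_cases hlt : q < lo + 2 ^ k
    · exact allB_spec h.1 q h1 hlt
    · exact allB_spec h.2 q (by omega) (by omega)

/-- `q` is divisible by one of `ps` without dividing its `k`-th power, so it is not a prime power -/
def skip (k q : ℕ) : List ℕ → Bool
  | [] => false
  | p :: ps => (Nat.blt 1 p && Nat.beq (q % p) 0 && Nat.blt 0 (p ^ k % q)) || skip k q ps

theorem not_skip {k q : ℕ} (hq : IsPrimePow q) (hk : q < 2 ^ k) : ∀ ps, skip k q ps = false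
  | [] => rfl
  | p :: ps => by
    rw [skip, not_skip hq hk ps, Bool.or_false]
    by_contra h
    simp only [Bool.not_eq_false, Bool.and_eq_true, Nat.blt_eq, Nat.beq_eq] at h
    obtain ⟨⟨hp, hqp⟩, hne⟩ := h
    obtain ⟨r, f, hr, hf, rfl⟩ := (isPrimePow_nat_iff q).1 hq
    obtain ⟨a, -, rfl⟩ := (Nat.dvd_prime_pow hr).1 (Nat.dvd_of_mod_eq_zero hqp)
    have ha : a ≠ 0 := by rintro rfl; simp at hp
    have hfk : f < k := (Nat.pow_lt_pow_iff_right one_lt_two).1
      ((Nat.pow_le_pow_left hr.two_le f).trans_lt hk)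
    have : r ^ f ∣ (r ^ a) ^ k := by
      rw [← pow_mul]
      exact Nat.pow_dvd_pow r (hfk.le.trans (Nat.le_mul_of_pos_left k (Nat.pos_of_ne_zero ha)))
    exact hne.ne' (Nat.mod_eq_zero_of_dvd this)

/-- no exception at `q` other than the listed ones -/
def smallOK (exps degs hits : List ℕ) (N j k q : ℕ) : Bool :=
  Nat.blt q 2 || skip k q [2, 3, 5, 7, 11, 13, 17, 19] || hits.contains q ||
    Nat.blt 0 ((q ^ N * gVal degs q) % (bVal exps q - j))

/-- the exclusion: only the listed `q` allow `bVal exps q - j` to divide `q ^ N * gVal degs q` -/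
theorem excl {exps degs hits : List ℕ} {n N j N0 k : ℕ} (hpos : ∀ m ∈ exps, 1 ≤ m) (hk : N0 ≤ 2 ^ k)
    (hp : polyOK exps degs n j N0 = true) (hs : allB (smallOK exps degs hits N j k) k 0 = true)
    {q d : ℕ} (hq : IsPrimePow q) (hj : 0 < j) (hd : d + j = bVal exps q)
    (hdvd : d ∣ q ^ N * gVal degs q) : q ∈ hits := by
  by_cases hlt : q < 2 ^ k
  · have := allB_spec hs q (Nat.zero_le _) (by omega)
    have h2 := hq.two_le
    simp only [smallOK, not_skip hq hlt, Bool.or_false, Bool.or_eq_true, Nat.blt_eq, List.contains_iff_mem] at this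
    rcases this with (h | h) | h
    · omega
    · exact h
    · rw [show bVal exps q - j = d by omega, Nat.mod_eq_zero_of_dvd hdvd] at h
      exact absurd h (lt_irrefl 0)
  exfalso
  have hjq : j < q := by
    have := hp
    simp only [polyOK, Bool.and_eq_true, decide_eq_true_eq] at this
    omega
  refine not_dvd_of_polyOK hp (by omega) hd ?_
  obtain ⟨p, f, hpp, hf, rfl⟩ := (isPrimePow_nat_iff q).1 hq
  have hqB : p ^ f ∣ bVal exps (p ^ f) := List.dvd_sum fun x hx => by
    obtain ⟨m, hm, rfl⟩ := List.mem_map.1 hx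
    exact dvd_pow_self _ (by have := hpos m hm; omega)
  obtain ⟨e, -, he⟩ := (Nat.dvd_prime_pow hpp).1 (pow_mul p f N ▸ Nat.gcd_dvd_right d ((p ^ f) ^ N))
  have hed : p ^ e ∣ d := he ▸ Nat.gcd_dvd_left _ _
  have hef : e < f := by
    by_contra hcon
    have h1 : p ^ f ∣ d := (Nat.pow_dvd_pow p (Nat.le_of_not_lt hcon)).trans hed
    rw [← hd, Nat.dvd_add_right h1] at hqB
    exact absurd (Nat.le_of_dvd hj hqB) (by omega)
  have hej : p ^ e ∣ j := by
    have := (Nat.pow_dvd_pow p hef.le).trans hqB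
    rwa [← hd, Nat.dvd_add_right hed] at this
  have := dvd_trans (Nat.dvd_gcd_mul_iff_dvd_mul.2 hdvd) (Nat.mul_dvd_mul_right (show Nat.gcd d ((p ^ f) ^ N) ∣ j by rw [← pow_mul, he]; exact hej) _)
  exact this

end CfsgLib.PLocal.Rad
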