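/-
Assembling the degree bound for a simple Chevalley group.
-/
import Cfsg.Agent.Lib.PLocal.Rad.Top
import Cfsg.Agent.Lib.PLocal.Rad.Excl
import Cfsg.Agent.Lib.Lie.Rel.Facts
import Cfsg.Agent.Lib.Lie.Twisted.Classes
import Cfsg.Agent.Lib.Char.Weights

set_option autoImplicit false
set_option linter.unusedSectionVars false

namespace CfsgLib.PLocal.Rad

open Module CfsgLib.Lie.Chev
open Cfsg.Lie (ChevalleyDatum)

/-- the cells give the bound up to `r` -/
def sumOK (exps lens : List ℕ) (r : ℕ) : Bool :=
  (padd (padd (asum (lens.map fun n => padd (mono (n + 1)) ((mono n).map (-1 * ·)))) [(r : ℤ)])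
    ((bPoly exps).map (-1 * ·))).all fun c => c == 0

theorem sum_cells {exps : List ℕ} {r : ℕ} (cells : List Cell)
    (h : sumOK exps (cells.map fun C => C.pairs.length) r = true) {q : ℕ} (hq : 1 ≤ q) :
    (cells.map fun C => (q - 1) * q ^ C.pairs.length).sum + r = bVal exps q := by
  simp only [sumOK, List.all_eq_true, beq_iff_eq] at h
  have e := horner_zero (q : ℤ) _ h
  simp only [horner_padd, horner_map, horner_bPoly, horner_asum, List.map_map] at e
  apply Nat.cast_injective (R := ℤ)
  rw [Nat.cast_add, Nat.cast_list_sum, List.map_map]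
  have : ((cells.map fun C => C.pairs.length).map
      (horner (q : ℤ) ∘ fun n => padd (mono (n + 1)) ((mono n).map (-1 * ·)))) =
      cells.map (Nat.cast ∘ fun C => (q - 1) * q ^ C.pairs.length) := by
    rw [List.map_map]
    refine List.map_congr_left fun C _ => ?_
    simp only [Function.comp, horner_padd, horner_map, horner_mono, Nat.cast_mul, Nat.cast_sub hq, Nat.cast_pow]
    push_cast
    ring
  simp only [List.map_map] at this
  rw [← this]
  have h1 : horner (q : ℤ) [(r : ℤ)] = r := by simp [horner]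
  rw [h1] at e
  simp only [Function.comp_def] at e ⊢
  linarith [e]

variable {D : ChevalleyDatum} {X : Aux} (C : Cert D X) {F : Type*} [Field F] [Fintype F]
variable {V : Type*} [AddCommGroup V] [Module ℂ V] [FiniteDimensional ℂ V]
include C

theorem xe_ne_one_of_irreducible (hS : IsSimpleGroup ↥(D.group F)) (ρ : Representation ℂ ↥(D.group F) V)
    [ρ.IsIrreducible] (h2 : 2 ≤ finrank ℂ V) {z : ℕ} (hz : z < D.nroots) :
    ∃ t, ρ ((chevRel C F).xe z t) ≠ 1 := by
  by_contra h
  push Not at h
  have hmem : (chevRel C F).xe z 1 ∈ MonoidHom.ker ρ := MonoidHom.mem_ker.2 (h 1)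
  rcases (MonoidHom.normal_ker ρ).eq_bot_or_eq_top with hb | ht
  · rw [hb, Subgroup.mem_bot] at hmem
    exact xG_ne_one C hz hmem
  · have h1 : ∀ g, ρ g = 1 := fun g => MonoidHom.mem_ker.1 (ht ▸ Subgroup.mem_top g)
    have : Nontrivial V := Module.nontrivial_of_finrank_pos (R := ℂ) (by omega)
    obtain ⟨v, hv⟩ := exists_ne (0 : V)
    have htop := CfsgLib.CharWeights.eq_top_of_invariant ρ (Submodule.span ℂ {v})
      (fun g w hw => by rw [h1]; exact hw) (by rwa [Ne, Submodule.span_singleton_eq_bot])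
    have := finrank_span_singleton (K := ℂ) hv
    rw [htop, finrank_top] at this
    omega

/-- all degrees below the bound are at most `r` away from it -/
theorem bound_or {T : TopData} (hT : TopOK D X T) {es : List (ℕ × ℕ × ℕ)}
    (hes : ∀ e ∈ es, Edge D X e.1 e.2.1 e.2.2) (hall : ∀ i < D.rank, i ∈ Reach [T.i0] es)
    (hI : CoefInj D X) {cells : List Cell} (hcells : ∀ C ∈ cells, CellOK D X C)
    (hγ : cells.map Cell.γ = List.range' (half D) (D.nroots - half D))
    {exps : List ℕ} {r : ℕ} (hsum : sumOK exps (cells.map fun C => C.pairs.length) r = true)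
    (hleft : bVal exps (Fintype.card F) ≤
      2 * (Fintype.card F ^ (T.pairs.length + 2) - Fintype.card F ^ T.pairs.length))
    (hS : IsSimpleGroup ↥(D.group F)) (ρ : Representation ℂ ↥(D.group F) V) [ρ.IsIrreducible]
    (h2 : 2 ≤ finrank ℂ V) :
    bVal exps (Fintype.card F) ≤ finrank ℂ V ∨
      ∃ j, 0 < j ∧ j ≤ r ∧ finrank ℂ V + j = bVal exps (Fintype.card F) ∧
        LinearMap.trace ℂ V (ρ ((chevRel C F).xe T.z 1)) =
          (finrank ℂ V : ℂ) - (Fintype.card F : ℂ) ^ (T.pairs.length + 2) := by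
  rcases degree_bound (chevRel C F) ρ hT hes hall hI hcells hγ
    (xe_ne_one_of_irreducible C hS ρ h2 hT.1.1) with h | ⟨h, htr⟩
  · exact Or.inl (hleft.trans h)
  have := sum_cells cells hsum (q := Fintype.card F) Fintype.card_pos
  by_cases hlt : bVal exps (Fintype.card F) ≤ finrank ℂ V
  · exact Or.inl hlt
  exact Or.inr ⟨bVal exps (Fintype.card F) - finrank ℂ V, by omega, by omega, by omega, htr⟩

end CfsgLib.PLocal.Rad
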