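/-
The exceptional degrees just below the bound for type E6.
-/
import Cfsg.Agent.Lib.PLocal.Rad.Finish
import Cfsg.Agent.Lib.PLocal.Rad.DataE6

set_option autoImplicit false
set_option maxHeartbeats 0
set_option maxRecDepth 20000

namespace CfsgLib.PLocal.Rad.E6

/-- the exponents of the Weyl group -/
def exps : List ℕ := [1, 4, 5, 7, 8, 11]

/-- the degrees of the Weyl group -/
def degs : List ℕ := [2, 5, 6, 8, 9, 12]

theorem sumOK' : sumOK exps (cells.map fun C => C.pairs.length) 6 = true := by decide +kernel

theorem poly1 : polyOK exps degs 11 1 28 = true := by decide +kernel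

theorem small1 : allB (smallOK exps degs [] 36 1 5) 5 0 = true := by decide +kernel

theorem poly2 : polyOK exps degs 11 2 167 = true := by decide +kernel

theorem small2 : allB (smallOK exps degs [2] 36 2 8) 8 0 = true := by decide +kernel

theorem poly3 : polyOK exps degs 11 3 503 = true := by decide +kernel

theorem small3 : allB (smallOK exps degs [] 36 3 9) 9 0 = true := by decide +kernel

theorem poly4 : polyOK exps degs 11 4 1118 = true := by decide +kernel

theorem small4 : allB (smallOK exps degs [4] 36 4 11) 11 0 = true := by decide +kernel

theorem poly5 : polyOK exps degs 11 5 2097 = true := by decide +kernel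

theorem small5 : allB (smallOK exps degs [] 36 5 12) 12 0 = true := by decide +kernel

theorem poly6 : polyOK exps degs 11 6 3524 = true := by decide +kernel

theorem small6 : allB (smallOK exps degs [] 36 6 12) 12 0 = true := by decide +kernel

/-- no other degree just below the bound divides the order -/
theorem excl_all {q d j : ℕ} (hq : IsPrimePow q) (hj : 0 < j) (hjr : j ≤ 6) (hd : d + j = bVal exps q)
    (hdvd : d ∣ q ^ 36 * gVal degs q) : (q = 2 ∧ j = 2) ∨ (q = 4 ∧ j = 4) := by
  have hpos : ∀ m ∈ exps, 1 ≤ m := by decide
  interval_cases j
  · exact absurd (excl hpos (k := 5) (by norm_num) poly1 small1 hq hj hd hdvd) List.not_mem_nil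
  · have := excl hpos (k := 8) (by norm_num) poly2 small2 hq hj hd hdvd
    simp only [List.mem_singleton] at this
    subst this
    simp
  · exact absurd (excl hpos (k := 9) (by norm_num) poly3 small3 hq hj hd hdvd) List.not_mem_nil
  · have := excl hpos (k := 11) (by norm_num) poly4 small4 hq hj hd hdvd
    simp only [List.mem_singleton] at this
    subst this
    simp
  · exact absurd (excl hpos (k := 12) (by norm_num) poly5 small5 hq hj hd hdvd) List.not_mem_nil
  · exact absurd (excl hpos (k := 12) (by norm_num) poly6 small6 hq hj hd hdvd) List.not_mem_nil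

end CfsgLib.PLocal.Rad.E6
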