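/-
The exceptional degrees just below the bound for type E8.
-/
import Cfsg.Agent.Lib.PLocal.Rad.Finish
import Cfsg.Agent.Lib.PLocal.Rad.DataE8

set_option autoImplicit false
set_option maxHeartbeats 0
set_option maxRecDepth 20000

namespace CfsgLib.PLocal.Rad.E8

/-- the exponents of the Weyl group -/
def exps : List ℕ := [1, 7, 11, 13, 17, 19, 23, 29]

/-- the degrees of the Weyl group -/
def degs : List ℕ := [2, 8, 12, 14, 18, 20, 24, 30]

theorem sumOK' : sumOK exps (cells.map fun C => C.pairs.length) 8 = true := by decide +kernel

theorem poly1 : polyOK exps degs 29 1 36 = true := by decide +kernel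

theorem small1 : allB (smallOK exps degs [] 120 1 6) 6 0 = true := by decide +kernel

theorem poly2 : polyOK exps degs 29 2 287 = true := by decide +kernel

theorem small2 : allB (smallOK exps degs [] 120 2 9) 9 0 = true := by decide +kernel

theorem poly3 : polyOK exps degs 29 3 970 = true := by decide +kernel

theorem small3 : allB (smallOK exps degs [] 120 3 10) 10 0 = true := by decide +kernel

theorem poly4 : polyOK exps degs 29 4 2301 = true := by decide +kernel

theorem small4 : allB (smallOK exps degs [] 120 4 12) 12 0 = true := by decide +kernel

theorem poly5 : polyOK exps degs 29 5 4496 = true := by decide +kernel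

theorem small5 : allB (smallOK exps degs [] 120 5 13) 13 0 = true := by decide +kernel

theorem poly6 : polyOK exps degs 29 6 7771 = true := by decide +kernel

theorem small6 : allB (smallOK exps degs [] 120 6 13) 13 0 = true := by decide +kernel

theorem poly7 : polyOK exps degs 29 7 12342 = true := by decide +kernel

theorem small7 : allB (smallOK exps degs [] 120 7 14) 14 0 = true := by decide +kernel

theorem poly8 : polyOK exps degs 29 8 18425 = true := by decide +kernel

theorem small8 : allB (smallOK exps degs [] 120 8 15) 15 0 = true := by decide +kernel

/-- no other degree just below the bound divides the order -/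
theorem excl_all {q d j : ℕ} (hq : IsPrimePow q) (hj : 0 < j) (hjr : j ≤ 8) (hd : d + j = bVal exps q)
    (hdvd : d ∣ q ^ 120 * gVal degs q) : False := by
  have hpos : ∀ m ∈ exps, 1 ≤ m := by decide
  interval_cases j
  · exact absurd (excl hpos (k := 6) (by norm_num) poly1 small1 hq hj hd hdvd) List.not_mem_nil
  · exact absurd (excl hpos (k := 9) (by norm_num) poly2 small2 hq hj hd hdvd) List.not_mem_nil
  · exact absurd (excl hpos (k := 10) (by norm_num) poly3 small3 hq hj hd hdvd) List.not_mem_nil
  · exact absurd (excl hpos (k := 12) (by norm_num) poly4 small4 hq hj hd hdvd) List.not_mem_nil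
  · exact absurd (excl hpos (k := 13) (by norm_num) poly5 small5 hq hj hd hdvd) List.not_mem_nil
  · exact absurd (excl hpos (k := 13) (by norm_num) poly6 small6 hq hj hd hdvd) List.not_mem_nil
  · exact absurd (excl hpos (k := 14) (by norm_num) poly7 small7 hq hj hd hdvd) List.not_mem_nil
  · exact absurd (excl hpos (k := 15) (by norm_num) poly8 small8 hq hj hd hdvd) List.not_mem_nil

end CfsgLib.PLocal.Rad.E8
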