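/-
An orbit of size `q ^ n - 1` on an elementary abelian product of root subgroups inside a centraliser.
-/
import Cfsg.Agent.Lib.PLocal.Rad.Top
import Mathlib.GroupTheory.NoncommPiCoprod

set_option autoImplicit false
set_option linter.unusedSectionVars false

namespace CfsgLib.PLocal.Rad

open CfsgLib.Lie.Chev
open Cfsg.Lie (ChevalleyDatum)

/-- the checks: the roots `a i` commute, and `r i j` moves `a i` to `a j` and centralises `z` and the others -/
def OrbitOK (D : ChevalleyDatum) (z : ℕ) {n : ℕ} (a : Fin n → ℕ) (r : Fin n → Fin n → ℕ) : Prop :=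
  ∀ i j, i = j ∨ (Terms D (a i) (a j) [] ∧ One D (r i j) (a i) (a j) ∧ Terms D (r i j) z [] ∧
    ∀ k, k = i ∨ Terms D (r i j) (a k) [])

instance (D : ChevalleyDatum) (z : ℕ) {n : ℕ} (a : Fin n → ℕ) (r : Fin n → Fin n → ℕ) :
    Decidable (OrbitOK D z a r) := by
  unfold OrbitOK; infer_instance

variable {D : ChevalleyDatum} {X : Aux} {F : Type*} [Field F] [Fintype F] {G : Type*} [Group G] (R : Rel D X F G)
include R

theorem card_orbit_dvd {z : ℕ} {n : ℕ} (hn : 2 ≤ n) {a : Fin n → ℕ} {r : Fin n → Fin n → ℕ}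
    (h : OrbitOK D z a r) (hne : ∀ i, R.xe (a i) (1 : F) ≠ 1) :
    Fintype.card F ^ n - 1 ∣ Nat.card ↥(Subgroup.centralizer ({R.xe z (1 : F)} : Set G)) := by
  classical
  have hcomm : Pairwise fun i j => ∀ x y : Multiplicative F,
      Commute ((rc R (a i)).toMonoidHom x) ((rc R (a j)).toMonoidHom y) := fun i j hij x y =>
    commute_of_terms R ((h i j).resolve_left hij).1 _ _
  set f := MonoidHom.noncommPiCoprod (fun i => (rc R (a i)).toMonoidHom) hcomm with hf
  set g : (Fin n → F) → G := fun v => f fun i => Multiplicative.ofAdd (v i) with hg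
  have g_add : ∀ v w, g (v + w) = g v * g w := fun v w => by
    rw [hg, ← map_mul]
    rfl
  have g_single : ∀ i c, g (Pi.single i c) = R.xe (a i) c := fun i c => by
    have : (fun k => Multiplicative.ofAdd ((Pi.single i c : Fin n → F) k)) =
        (Pi.mulSingle i (Multiplicative.ofAdd c) : Fin n → Multiplicative F) := by
      funext k
      by_cases hk : k = i
      · subst hk; simp
      · simp [hk]
    rw [hg]
    dsimp only
    rw [this, hf, MonoidHom.noncommPiCoprod_mulSingle]
    rfl
  have g_zero : g 0 = 1 := by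
    have := g_add 0 0
    rw [add_zero] at this
    exact left_eq_mul.1 this
  set S : Set G := {x | ∃ i j, i ≠ j ∧ ∃ t, x = R.xe (r i j) t} with hS
  set H := Subgroup.closure S with hH
  -- the moves
  have move : ∀ i j, i ≠ j → ∃ ε : F, ε ≠ 0 ∧ ∀ t v,
      R.xe (r i j) (-t) * g v * (R.xe (r i j) (-t))⁻¹ = g (v + Pi.single j (ε * t * v i)) := by
    intro i j hij
    obtain ⟨-, hone, -, hoth⟩ := (h i j).resolve_left hij
    obtain ⟨ε, hε, e⟩ := hone.swap R
    refine ⟨ε, hε, fun t v => ?_⟩
    set x := R.xe (r i j) (-t) with hx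
    let φ : Multiplicative (Fin n → F) →* G :=
      MonoidHom.mk' (fun w => x * g w.toAdd * x⁻¹) fun u w => by
        rw [toAdd_mul, g_add]; group
    let ψ : Multiplicative (Fin n → F) →* G :=
      MonoidHom.mk' (fun w => g (w.toAdd + Pi.single j (ε * t * w.toAdd i))) fun u w => by
        rw [← g_add, toAdd_mul, Pi.add_apply, mul_add, Pi.single_add]
        congr 1
        abel
    have key : ∀ k c, φ (Multiplicative.ofAdd (Pi.single k c)) = ψ (Multiplicative.ofAdd (Pi.single k c)) := by
      intro k c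
      show x * g (Pi.single k c) * x⁻¹ = g (Pi.single k c + Pi.single j (ε * t * (Pi.single k c : Fin n → F) i))
      rw [g_single, g_add, g_single, g_single, hx, ← R.xe_neg, neg_neg]
      by_cases hk : k = i
      · subst hk
        rw [Pi.single_eq_same, mul_assoc, e t c, ← mul_assoc, ← mul_assoc, R.xe_add', neg_add_cancel, R.xe_zero,
          one_mul]
      · rw [Pi.single_eq_of_ne (Ne.symm hk), mul_zero, R.xe_zero, mul_one,
          (commute_of_terms R ((hoth k).resolve_left hk) (-t) c).eq, mul_assoc, R.xe_add', neg_add_cancel,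
          R.xe_zero, mul_one]
    have hsum : ∀ s : Finset (Fin n), φ (Multiplicative.ofAdd (∑ k ∈ s, Pi.single k (v k))) =
        ψ (Multiplicative.ofAdd (∑ k ∈ s, Pi.single k (v k))) := by
      intro s
      induction s using Finset.induction with
      | empty => simp
      | insert k s hk ih => rw [Finset.sum_insert hk, ofAdd_add, map_mul, map_mul, key, ih]
    have := hsum Finset.univ
    rwa [Finset.univ_sum_single] at this
  -- the relation of being conjugate
  let Rl : (Fin n → F) → (Fin n → F) → Prop := fun v w => ∃ p ∈ H, p * g v * p⁻¹ = g w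
  have rl_symm : ∀ v w, Rl v w → Rl w v := by
    rintro v w ⟨p, hp, e⟩
    exact ⟨p⁻¹, inv_mem hp, by rw [← e]; group⟩
  have rl_trans : ∀ u v w, Rl u v → Rl v w → Rl u w := by
    rintro u v w ⟨p, hp, e⟩ ⟨p', hp', e'⟩
    exact ⟨p' * p, mul_mem hp' hp, by rw [← e', ← e]; group⟩
  have upd : ∀ v i j, i ≠ j → v i ≠ 0 → ∀ c, Rl v (Function.update v j c) := by
    intro v i j hij hv c
    obtain ⟨ε, hε, em⟩ := move i j hij
    refine ⟨_, Subgroup.subset_closure ⟨i, j, hij, -((c - v j) / (ε * v i)), rfl⟩, ?_⟩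
    rw [em]
    congr 1
    funext k
    by_cases hk : k = j
    · subst hk
      rw [Pi.add_apply, Pi.single_eq_same, Function.update_self]
      field_simp
      ring
    · rw [Pi.add_apply, Pi.single_eq_of_ne hk, Function.update_of_ne hk, add_zero]
  have clear : ∀ v i, v i ≠ 0 → Rl v (Pi.single i (v i)) := by
    intro v i hv
    have : ∀ s : Finset (Fin n), i ∉ s → Rl v (s.piecewise 0 v) := by
      intro s
      induction s using Finset.induction with
      | empty => exact fun _ => ⟨1, one_mem _, by simp⟩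
      | insert k s hk ih =>
        intro hi
        rw [Finset.mem_insert, not_or] at hi
        rw [Finset.piecewise_insert]
        refine rl_trans _ _ _ (ih hi.2) (upd _ i k hi.1 ?_ _)
        rwa [Finset.piecewise_eq_of_notMem _ _ _ hi.2]
    have e : (Finset.univ.erase i).piecewise 0 v = Pi.single i (v i) := by
      funext k
      by_cases hk : k = i
      · subst hk; simp
      · simp [hk]
    exact e ▸ this _ (Finset.notMem_erase _ _)
  have hop : ∀ i j, i ≠ j → ∀ c d : F, c ≠ 0 → d ≠ 0 → Rl (Pi.single i c) (Pi.single j d) := by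
    intro i j hij c d hc hd
    refine rl_trans _ _ _ (upd _ i j hij (by rwa [Pi.single_eq_same]) d) ?_
    have := clear (Function.update (Pi.single i c) j d) j (by rwa [Function.update_self])
    rwa [Function.update_self] at this
  let o : Fin n := ⟨0, by omega⟩
  have all : ∀ v, v ≠ 0 → Rl (Pi.single o 1) v := by
    intro v hv
    obtain ⟨i, hi⟩ : ∃ i, v i ≠ 0 := Function.ne_iff.1 hv
    refine rl_symm _ _ (rl_trans _ _ _ (clear v i hi) ?_)
    by_cases hio : i = o
    · subst hio
      let o' : Fin n := ⟨1, hn⟩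
      have : o ≠ o' := by simp [o, o']
      exact rl_trans _ _ _ (hop _ _ this _ 1 hi one_ne_zero) (hop _ _ this.symm _ _ one_ne_zero one_ne_zero)
    · exact hop _ _ hio _ _ hi one_ne_zero
  have g_ne : ∀ v, v ≠ 0 → g v ≠ 1 := fun v hv e => by
    obtain ⟨p, -, hp⟩ := rl_symm _ _ (all v hv)
    rw [e, g_single] at hp
    exact hne o (by rw [← hp]; group)
  have g_inj : Function.Injective g := fun v w e => by
    by_contra hvw
    refine g_ne (v - w) (sub_ne_zero.2 hvw) ?_
    have := g_add (v - w) w
    rwa [sub_add_cancel, e, right_eq_mul] at this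
  -- the orbit
  let Hc : Subgroup (ConjAct G) := H.map (ConjAct.toConjAct : G ≃* ConjAct G).toMonoidHom
  set x0 := g (Pi.single o 1)
  have inv : ∀ p ∈ H, ∀ v, ∃ w, p * g v * p⁻¹ = g w := by
    intro p hp
    induction hp using Subgroup.closure_induction'' with
    | mem y hy =>
      obtain ⟨i, j, hij, t, rfl⟩ := hy
      obtain ⟨ε, -, em⟩ := move i j hij
      exact fun v => ⟨_, by rw [← neg_neg t]; exact em (-t) v⟩
    | inv_mem y hy =>
      obtain ⟨i, j, hij, t, rfl⟩ := hy
      obtain ⟨ε, -, em⟩ := move i j hij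
      exact fun v => ⟨_, by rw [← R.xe_neg]; exact em t v⟩
    | one => exact fun v => ⟨v, by simp⟩
    | mul p p' _ _ ih ih' =>
      intro v
      obtain ⟨w, hw⟩ := ih' v
      obtain ⟨w', hw'⟩ := ih w
      exact ⟨w', by rw [← hw', ← hw]; group⟩
  have horb : MulAction.orbit (↥Hc) x0 = g '' ({0}ᶜ : Set (Fin n → F)) := by
    apply subset_antisymm
    · rintro _ ⟨⟨_, p, hp, rfl⟩, rfl⟩
      obtain ⟨w, hw⟩ := inv p hp (Pi.single o 1)
      refine ⟨w, fun hw0 => g_ne (Pi.single o 1) ?_ ?_, hw.symm⟩
      · exact fun e => one_ne_zero ((congrFun e o).symm.trans (Pi.single_eq_same (M := fun _ => F) o 1)).symm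
      · rw [Set.mem_singleton_iff.1 hw0, g_zero] at hw
        rwa [conj_eq_one_iff] at hw
    · rintro _ ⟨w, hw, rfl⟩
      obtain ⟨p, hp, e⟩ := all w hw
      exact ⟨⟨_, p, hp, rfl⟩, e⟩
  have hle : H ≤ Subgroup.centralizer ({R.xe z (1 : F)} : Set G) := by
    rw [hH, Subgroup.closure_le]
    rintro _ ⟨i, j, hij, t, rfl⟩
    exact Subgroup.mem_centralizer_singleton_iff.2
      (commute_of_terms R ((h i j).resolve_left hij).2.2.1 t 1).eq
  refine dvd_trans ?_ (Subgroup.card_dvd_of_le hle)
  rw [← Subgroup.card_map_of_injective (f := (ConjAct.toConjAct : G ≃* ConjAct G).toMonoidHom) (MulEquiv.injective _)]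
  have hidx := Subgroup.index_mul_card (MulAction.stabilizer (↥Hc) x0)
  rw [MulAction.index_stabilizer, horb] at hidx
  refine dvd_trans (dvd_of_eq ?_) ⟨_, hidx.symm⟩
  rw [Set.ncard_image_of_injective _ g_inj, Set.ncard_compl, Set.ncard_singleton, Nat.card_eq_fintype_card,
    Fintype.card_fun, Fintype.card_fin]

end CfsgLib.PLocal.Rad
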